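import Mathlib
import Cfsg.Agent.AltSevenRecog.Tools
import Cfsg.Agent.SmallOrders.Local

/-!
The odd Sylow normalisers of a simple group of order 2520 without subgroups of index at most seven.
-/

set_option autoImplicit false
set_option linter.style.haveILetI false

namespace CfsgLib.AltSevenRecog

universe u

variable {G : Type u} [Group G] [Finite G]

/-- An element of order coprime to `p - 1` normalising a subgroup of order `p` centralises it. -/
theorem mem_centralizer_of_coprime {p : ℕ} [Fact p.Prime] {K : Subgroup G} (hK : Nat.card K = p) {c : G}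
    (hc : c ∈ Subgroup.normalizer (K : Set G)) (hco : Nat.Coprime (orderOf c) (p - 1)) :
    c ∈ Subgroup.centralizer (K : Set G) := by
  haveI : IsCyclic K := isCyclic_of_prime_card hK
  have h1 : orderOf (K.normalizerMonoidHom ⟨c, hc⟩) ∣ orderOf c := by
    refine (orderOf_map_dvd _ _).trans ?_
    rw [Subgroup.orderOf_mk]
  have h2 : orderOf (K.normalizerMonoidHom ⟨c, hc⟩) ∣ p - 1 := by
    have := orderOf_dvd_natCard (K.normalizerMonoidHom ⟨c, hc⟩)
    rwa [IsCyclic.card_mulAut, hK, Nat.totient_prime (Fact.out : p.Prime)] at this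
  have h3 : (⟨c, hc⟩ : Subgroup.normalizer (K : Set G)) ∈ K.normalizerMonoidHom.ker :=
    MonoidHom.mem_ker.2 (orderOf_eq_one_iff.1 (Nat.eq_one_of_dvd_coprimes hco h1 h2))
  rw [Subgroup.normalizerMonoidHom_ker] at h3
  exact h3

/-- The fixed points of an element of prime order on a normalised subgroup. -/
theorem card_fixed_mod {p : ℕ} [Fact p.Prime] {T : Subgroup G} {c : G} (hp : IsPGroup p (Subgroup.zpowers c))
    (hn : c ∈ Subgroup.normalizer (T : Set G)) :
    Nat.card ↥(T ⊓ Subgroup.centralizer ({c} : Set G)) % p = Nat.card T % p := by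
  have hle : Subgroup.zpowers c ≤ Subgroup.normalizer (T : Set G) := Subgroup.zpowers_le.2 hn
  let act : MulAction (Subgroup.zpowers c) T :=
    { smul := fun g x => ⟨(g : G) * x * (g : G)⁻¹, (Subgroup.mem_normalizer_iff.1 (hle g.2) _).1 x.2⟩
      one_smul := fun x => Subtype.ext (by show (1 : G) * x * (1 : G)⁻¹ = x; simp)
      mul_smul := fun g h x => Subtype.ext (by
        show ((g * h : Subgroup.zpowers c) : G) * x * ((g * h : Subgroup.zpowers c) : G)⁻¹ =
          (g : G) * ((h : G) * x * (h : G)⁻¹) * (g : G)⁻¹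
        rw [Subgroup.coe_mul]; group) }
  have h := hp.card_modEq_card_fixedPoints T
  rw [Nat.ModEq] at h
  rw [h]
  congr 1
  refine Nat.card_congr
    { toFun := fun x => ⟨⟨x.1, x.2.1⟩, fun g => Subtype.ext ?_⟩
      invFun := fun x => ⟨(x.1 : G), x.1.2, ?_⟩
      left_inv := fun _ => rfl
      right_inv := fun _ => rfl }
  · show (g : G) * x.1 * (g : G)⁻¹ = x.1
    obtain ⟨i, hi⟩ := g.2
    change c ^ i = (g : G) at hi
    have hx : Commute c x.1 := (Subgroup.mem_centralizer_singleton_iff.1 x.2.2).symm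
    rw [← hi, (hx.zpow_left i).eq, mul_inv_cancel_right]
  · refine Subgroup.mem_centralizer_singleton_iff.2 ?_
    have h1 : c * (x.1 : G) * c⁻¹ = x.1 := congrArg Subtype.val (x.2 ⟨c, Subgroup.mem_zpowers c⟩)
    exact (mul_inv_eq_iff_eq_mul.1 h1).symm

/-- The Sylow subgroup generated by an element. -/
theorem exists_sylow_zpowers {p : ℕ} [Fact p.Prime] {m : ℕ} (h : Nat.card G = p * m) (hm : ¬ p ∣ m) {c : G}
    (hc : orderOf c = p) : ∃ P : Sylow p G, (P : Subgroup G) = Subgroup.zpowers c := by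
  obtain ⟨P, hP⟩ := (IsPGroup.of_card (p := p) (n := 1)
    (show Nat.card (Subgroup.zpowers c) = p ^ 1 by rw [Nat.card_zpowers, hc, pow_one])).exists_le_sylow
  refine ⟨P, (Subgroup.eq_of_le_of_card_ge hP ?_).symm⟩
  rw [SmallOrd.sylow_card (k := 1) (by rw [pow_one]; exact h) hm, pow_one, Nat.card_zpowers, hc]

/-- The standing hypothesis: order 2520 and no small index. -/
def Big (G : Type*) [Group G] : Prop := Nat.card G = 2520 ∧ ∀ H : Subgroup G, H ≠ ⊤ → 8 ≤ H.index

variable [IsSimpleGroup G]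

theorem Big.not_comm (hB : Big G) : ¬ IsMulCommutative G :=
  SmallOrd.not_comm (by rw [hB.1]; norm_num)

theorem Big.card_le (hB : Big G) {H : Subgroup G} (hH : H ≠ ⊤) : Nat.card H ≤ 315 := by
  have h1 := H.card_mul_index
  rw [hB.1] at h1
  have h2 := Nat.mul_le_mul_left (Nat.card H) (hB.2 H hH)
  omega

theorem Big.sylow (hB : Big G) {p k m : ℕ} [Fact p.Prime] (hkm : (2520 : ℕ) = p ^ k * m) (hm : ¬ p ∣ m)
    (hk : 0 < k) (hm1 : m ≠ 1) (P : Sylow p G) :
    Nat.card (P : Subgroup G) = p ^ k ∧ (P : Subgroup G) ≠ ⊥ ∧ (P : Subgroup G) ≠ ⊤ ∧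
      ∃ n, n = Nat.card (Sylow p G) ∧ n ∣ m ∧ n % p = 1 ∧ 8 ≤ n ∧
        n * Nat.card (Subgroup.normalizer ((P : Subgroup G) : Set G)) = 2520 ∧
        n ∈ (Nat.divisors m).filter (fun d => d % p = 1) := by
  have hp : p.Prime := Fact.out
  have hP := SmallOrd.sylow_card (hB.1.trans hkm) hm P
  have h0 : (P : Subgroup G) ≠ ⊥ := fun e => by
    rw [e, Subgroup.card_bot] at hP
    exact (Nat.one_lt_pow hk.ne' hp.one_lt).ne hP
  have ht : (P : Subgroup G) ≠ ⊤ := fun e => by
    rw [e, Subgroup.card_top, hB.1, hkm] at hP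
    exact hm1 ((Nat.mul_eq_left (pow_ne_zero _ hp.ne_zero)).1 hP)
  obtain ⟨hN, -, h2, h3, h4⟩ := SmallOrd.sylow_data P h0 ht
  have hd : Nat.card (Sylow p G) ∣ m := by
    have h := P.card_dvd_index
    rwa [show (P : Subgroup G).index = m from Nat.eq_of_mul_eq_mul_left (pow_pos hp.pos k)
      (by rw [← hP, Subgroup.card_mul_index, hB.1, hkm, hP])] at h
  have hm0 : m ≠ 0 := by rintro rfl; simp at hkm
  exact ⟨hP, h0, ht, _, rfl, hd, h2, h3 ▸ hB.2 _ hN, by rw [h4, hB.1],
    SmallOrd.mem_divisors_filter hm0 hd h2⟩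

theorem Big.seven (hB : Big G) {g y : G} (hg : orderOf g = 7) (hgy : Commute g y) : y ∈ Subgroup.zpowers g := by
  haveI : Fact (Nat.Prime 7) := ⟨by norm_num⟩
  haveI : Fact (Nat.Prime 5) := ⟨by norm_num⟩
  haveI : Fact (Nat.Prime 2) := ⟨by norm_num⟩
  have hG := hB.not_comm
  obtain ⟨P, hP⟩ := exists_sylow_zpowers (m := 360) (by rw [hB.1]) (by norm_num) hg
  obtain ⟨hPc, hP0, hPt, n, hn, -, -, hn8, hnN, hmem⟩ :=
    hB.sylow (p := 7) (k := 1) (m := 360) (by norm_num) (by norm_num) one_pos (by norm_num) P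
  rw [pow_one] at hPc
  rw [show (Nat.divisors 360).filter (fun d => d % 7 = 1) = {1, 8, 15, 36, 120} by decide +kernel] at hmem
  obtain ⟨L⟩ := SmallOrd.exists_localData P hPc (by rw [hB.1]; norm_num)
  set N := Subgroup.normalizer ((P : Subgroup G) : Set G) with hNdef
  set C := Subgroup.centralizer ((P : Subgroup G) : Set G) with hCdef
  have hCN : C ≤ N := Subgroup.centralizer_le_normalizer _
  have hmemC : ∀ z, z ∈ C ↔ Commute g z := fun z => by
    rw [hCdef, hP, Subgroup.zpowers_eq_closure, Subgroup.centralizer_closure,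
      Subgroup.mem_centralizer_singleton_iff]
    exact ⟨fun h => h.symm, fun h => h.symm⟩
  have heC : L.e * Nat.card C = Nat.card N := by rw [← L.hC, L.e_mul, L.hN]
  have he6 := L.e_dvd
  have he1 := L.e_ne
  have h7C : 7 ∣ Nat.card C := L.hC ▸ L.p_dvd
  have hgP : g ∈ (P : Subgroup G) := hP ▸ Subgroup.mem_zpowers g
  have hne : ∃ (x : G) (Q : Sylow 7 G), x • Q ≠ Q := by
    obtain ⟨x, hx⟩ : ∃ x, x ∉ N := by
      by_contra hcon
      push Not at hcon
      refine (SmallOrd.sylow_data P hP0 hPt).1 (eq_top_iff.2 fun x _ => hcon x)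
    exact ⟨x, P, fun h => hx (Sylow.smul_eq_iff_mem_normalizer.1 h)⟩
  have hu := fixes_only P hPc hg hgP
  simp only [Finset.mem_insert, Finset.mem_singleton] at hmem
  rcases hmem with h | h | h | h | h <;> rw [h] at hnN
  · omega
  · -- eight
    have h1 := SmallOrd.card_normalizer_dvd_of_succ (by norm_num) hG P hPc (by omega)
    rw [← hNdef, show Nat.card N = 315 by omega] at h1
    norm_num at h1
  · -- fifteen
    have hN : Nat.card N = 168 := by omega
    have h2 : 2 ∣ Nat.card C := by
      rw [hN] at heC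
      have : L.e ≤ 6 := Nat.le_of_dvd (by norm_num) he6
      interval_cases L.e <;> omega
    obtain ⟨t, ht, htC⟩ := SmallOrd.exists_involution_centralizing h2
    obtain ⟨h4, hlt⟩ := fixed_mod_four hG hne ht
    have h7 := fixed_mod_prime hg ((hmemC t).1 htC) P hu
    rw [← hn, h] at h4 hlt
    omega
  · -- thirty-six
    exfalso
    have hN : Nat.card N = 70 := by omega
    have hC : Nat.card C = 35 := by
      rw [hN] at heC
      have : L.e ≤ 6 := Nat.le_of_dvd (by norm_num) he6
      interval_cases L.e <;> omega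
    obtain ⟨⟨c, hcC⟩, hc⟩ := exists_prime_orderOf_dvd_card' (G := C) 5 (by rw [hC]; norm_num)
    rw [Subgroup.orderOf_mk] at hc
    have hgc : Commute g c := (hmemC c).1 hcC
    obtain ⟨R, hR⟩ := exists_sylow_zpowers (p := 5) (m := 504) (by rw [hB.1]) (by norm_num) hc
    obtain ⟨hRc, hR0, hRt, k, -, -, -, hk8, hkN, hkmem⟩ :=
      hB.sylow (p := 5) (k := 1) (m := 504) (by norm_num) (by norm_num) one_pos (by norm_num) R
    rw [show (Nat.divisors 504).filter (fun d => d % 5 = 1) = {1, 6, 21, 36, 56, 126} by decide +kernel] at hkmem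
    have hCR : ∀ z, z ∈ Subgroup.centralizer ((R : Subgroup G) : Set G) ↔ Commute c z := fun z => by
      rw [hR, Subgroup.zpowers_eq_closure, Subgroup.centralizer_closure, Subgroup.mem_centralizer_singleton_iff]
      exact ⟨fun h => h.symm, fun h => h.symm⟩
    have h35 : 35 ∣ Nat.card (Subgroup.centralizer ((R : Subgroup G) : Set G)) := by
      refine (show Nat.Coprime 7 5 by norm_num).mul_dvd_of_dvd_of_dvd ?_ ?_
      · have := Subgroup.orderOf_dvd_natCard _ ((hCR g).2 hgc.symm); rwa [hg] at this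
      · have := Subgroup.orderOf_dvd_natCard _ ((hCR c).2 (Commute.refl c)); rwa [hc] at this
    have hle : Subgroup.centralizer ((R : Subgroup G) : Set G) ≤ Subgroup.normalizer ((R : Subgroup G) : Set G) :=
      Subgroup.centralizer_le_normalizer _
    have hNR : Nat.card (Subgroup.normalizer ((R : Subgroup G) : Set G)) = 70 := by
      have h1 := h35.trans (Subgroup.card_dvd_of_le hle)
      simp only [Finset.mem_insert, Finset.mem_singleton] at hkmem
      rcases hkmem with e | e | e | e | e | e <;> rw [e] at hkN <;> omega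
    have hCR35 : Nat.card (Subgroup.centralizer ((R : Subgroup G) : Set G)) = 35 := by
      have h1 := Subgroup.card_dvd_of_le hle
      rw [hNR] at h1
      obtain ⟨d, hd⟩ := h35
      have h3 : d ≤ 2 := by have := Nat.le_of_dvd (by norm_num) h1; omega
      have h4 : d ≠ 2 := fun e => SmallOrd.not_normalizer_le_centralizer R hR0 hRt
        (Subgroup.eq_of_le_of_card_ge hle (by rw [hNR, hd, e])).ge
      have h5 : 0 < 35 * d := hd ▸ Nat.card_pos
      omega
    -- an element of order five fixes `P` only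
    have hfix5 : ∀ a, orderOf a = 5 → Commute c a → Commute g a → ∀ Q : Sylow 7 G, a • Q = Q → Q = P := by
      intro a ha hca hga Q hQ
      have hQc : Nat.card (Q : Subgroup G) = 7 := by rw [Q.card_eq_multiplicity, ← P.card_eq_multiplicity, hPc]
      have haQ := mem_centralizer_of_coprime hQc (Sylow.smul_eq_iff_mem_normalizer.1 hQ) (by rw [ha]; norm_num)
      have hca' : Subgroup.zpowers a = Subgroup.zpowers c := by
        have h1 := mem_of_mem_normalizer (p := 5) (k := 1) (Q := R) (by rw [ha, pow_one])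
          (hle ((hCR a).2 hca))
        exact Subgroup.eq_of_le_of_card_ge (Subgroup.zpowers_le.2 (hR ▸ h1)) (by simp [Nat.card_zpowers, ha, hc])
      have hQC : (Q : Subgroup G) ≤ Subgroup.centralizer ((R : Subgroup G) : Set G) := fun q hq => by
        rw [hR, ← hca', Subgroup.zpowers_eq_closure, Subgroup.centralizer_closure, Subgroup.mem_centralizer_singleton_iff]
        exact haQ q hq
      obtain ⟨q, hq⟩ := exists_prime_orderOf_dvd_card' (G := (Q : Subgroup G)) 7 (by rw [hQc])
      have hqo : orderOf (q : G) = 7 := by rw [Subgroup.orderOf_coe, hq]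
      -- the centraliser of `c` has order thirty-five
      set H := Subgroup.centralizer ((R : Subgroup G) : Set G)
      haveI : Fintype (Sylow 7 H) := Fintype.ofFinite _
      let PH : Sylow 7 H := P.subtype (hP ▸ Subgroup.zpowers_le.2 ((hCR g).2 hgc.symm))
      let QH : Sylow 7 H := Q.subtype hQC
      have h7H := card_sylow_modEq_one 7 H
      have hdH : Nat.card (Sylow 7 H) ∣ 5 := by
        have h1 := PH.card_dvd_index
        have h2 := Subgroup.card_mul_index (PH : Subgroup H)
        rw [hCR35, show Nat.card (PH : Subgroup H) = 7 by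
          rw [Sylow.coe_subtype, Nat.card_congr (Subgroup.subgroupOfEquivOfLe _).toEquiv, hPc]
          exact hP ▸ Subgroup.zpowers_le.2 ((hCR g).2 hgc.symm)] at h2
        rwa [show (PH : Subgroup H).index = 5 by omega] at h1
      have h1H : Nat.card (Sylow 7 H) = 1 := by
        have := Nat.le_of_dvd (by norm_num) hdH
        have h0 : 0 < Nat.card (Sylow 7 H) := Nat.card_pos
        unfold Nat.ModEq at h7H
        omega
      haveI : Subsingleton (Sylow 7 H) := (Nat.card_eq_one_iff_unique.1 h1H).1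
      exact Sylow.subtype_injective (Subsingleton.elim QH PH)
    -- the centraliser of `P` acts regularly on the other points
    have hcomC : ∀ a ∈ C, ∀ b ∈ C, Commute a b := by
      have ho : orderOf (g * c) = 35 := by
        rw [hgc.orderOf_mul_eq_mul_orderOf_of_coprime (by rw [hg, hc]; norm_num), hg, hc]
      have hz : Subgroup.zpowers (g * c) = C := Subgroup.eq_of_le_of_card_ge
        (Subgroup.zpowers_le.2 (mul_mem ((hmemC g).2 (Commute.refl g)) hcC)) (by rw [Nat.card_zpowers, ho, hC])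
      intro a ha b hb
      obtain ⟨i, rfl⟩ := (hz ▸ ha : a ∈ Subgroup.zpowers (g * c))
      obtain ⟨j, rfl⟩ := (hz ▸ hb : b ∈ Subgroup.zpowers (g * c))
      exact Commute.zpow_zpow (Commute.refl _) i j
    have hcC' : c ∈ C := hcC
    have hsplit : ∀ a ∈ C, a ≠ 1 → orderOf (a ^ 5) = 7 ∨ orderOf a = 5 := by
      intro a ha ha1
      have h1 : a ^ 35 = 1 := by
        have := pow_card_eq_one' (G := C) (x := ⟨a, ha⟩)
        rw [hC] at this
        exact congrArg Subtype.val this
      by_cases h5 : a ^ 5 = 1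
      · exact Or.inr (orderOf_eq_prime h5 ha1)
      · exact Or.inl (orderOf_eq_prime (by rw [← pow_mul]; exact h1) h5)
    have hfree : ∀ a ∈ C, ∀ Q : Sylow 7 G, Q ≠ P → a • Q = Q → a = 1 := by
      intro a ha Q hQP haQ
      by_contra ha1
      rcases hsplit a ha ha1 with h5 | h5
      · have hm : a ^ 5 ∈ (P : Subgroup G) :=
          mem_of_mem_normalizer (k := 1) (by rw [h5, pow_one]) (hCN (pow_mem ha 5))
        refine hQP ((fixes_only P hPc h5 hm Q).1 ?_)
        exact MulAction.mem_stabilizer_iff.1 (pow_mem (MulAction.mem_stabilizer_iff.2 haQ) 5)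
      · exact hQP (hfix5 a h5 (hcomC c hcC' a ha) ((hmemC a).1 ha) Q haQ)
    obtain ⟨⟨y, hyN⟩, hy⟩ := exists_prime_orderOf_dvd_card' (G := N) 2 (by rw [hN]; norm_num)
    rw [Subgroup.orderOf_mk] at hy
    have hyy : y * y = 1 := by rw [← pow_two, ← hy, pow_orderOf_eq_one]
    have hyC : y ∉ C := fun h => by
      have := hy ▸ Subgroup.orderOf_dvd_natCard C h
      omega
    have hCy : ∀ a ∈ C, Commute a y → a = 1 := by
      intro a ha hay
      by_contra ha1
      rcases hsplit a ha ha1 with h5 | h5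
      · apply hyC
        have hm : a ^ 5 ∈ (P : Subgroup G) :=
          mem_of_mem_normalizer (k := 1) (by rw [h5, pow_one]) (hCN (pow_mem ha 5))
        have hz : Subgroup.zpowers (a ^ 5) = (P : Subgroup G) :=
          Subgroup.eq_of_le_of_card_ge (Subgroup.zpowers_le.2 hm) (by rw [Nat.card_zpowers, h5, hPc])
        rw [hCdef, ← hz, Subgroup.zpowers_eq_closure, Subgroup.centralizer_closure,
          Subgroup.mem_centralizer_singleton_iff]
        exact (hay.pow_left 5).symm
      · have h1 : a ∈ (R : Subgroup G) := mem_of_mem_normalizer (k := 1) (by rw [h5, pow_one])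
          (hle ((hCR a).2 (hcomC c hcC' a ha)))
        have hz : Subgroup.zpowers a = (R : Subgroup G) :=
          Subgroup.eq_of_le_of_card_ge (Subgroup.zpowers_le.2 h1) (by rw [Nat.card_zpowers, h5, hRc, pow_one])
        have hy' : y ∈ Subgroup.centralizer ((R : Subgroup G) : Set G) := by
          rw [← hz, Subgroup.zpowers_eq_closure, Subgroup.centralizer_closure,
            Subgroup.mem_centralizer_singleton_iff]
          exact hay.symm
        have := hy ▸ Subgroup.orderOf_dvd_natCard _ hy'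
        omega
    have hconj : ∀ a ∈ C, y * a * y⁻¹ ∈ C := fun a ha => by
      rw [hCdef, Subgroup.mem_centralizer_iff]
      intro q hq
      have h1 : y⁻¹ * q * y ∈ (P : Subgroup G) := (Subgroup.mem_normalizer_iff''.1 hyN q).1 hq
      have h2 := Subgroup.mem_centralizer_iff.1 ha _ h1
      calc q * (y * a * y⁻¹) = y * ((y⁻¹ * q * y) * a) * y⁻¹ := by group
        _ = y * (a * (y⁻¹ * q * y)) * y⁻¹ := by rw [h2]
        _ = _ := by group
    have hinv : ∀ a ∈ C, y * a * y⁻¹ = a⁻¹ := by
      intro a ha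
      refine eq_inv_of_mul_eq_one_right (hCy _ (mul_mem ha (hconj a ha)) ?_)
      refine (mul_inv_eq_iff_eq_mul.1 ?_).symm
      calc y * (a * (y * a * y⁻¹)) * y⁻¹ = (y * a * y⁻¹) * ((y * y) * a * (y * y)⁻¹) := by group
        _ = a * (y * a * y⁻¹) := by rw [hyy, inv_one, mul_one, one_mul, (hcomC _ (hconj a ha) a ha).eq]
    have hyP : y • P = P := Sylow.smul_eq_iff_mem_normalizer.2 hyN
    have huniq : ∀ Q₁ Q₂ : Sylow 7 G, Q₁ ≠ P → Q₂ ≠ P → y • Q₁ = Q₁ → y • Q₂ = Q₂ → Q₁ = Q₂ := by
      intro Q₁ Q₂ h1 h2 hf1 hf2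
      let F : C → {Q : Sylow 7 G // Q ≠ P} := fun a => ⟨(a : G) • Q₁, fun e => h1 (by
        have : (a : G) • Q₁ = (a : G) • P := e.trans (Sylow.smul_eq_iff_mem_normalizer.2 (hCN a.2)).symm
        exact MulAction.injective _ this)⟩
      have hF : Function.Injective F := fun a b e => by
        have e' : (a : G) • Q₁ = (b : G) • Q₁ := congrArg Subtype.val e
        have := hfree _ (mul_mem (inv_mem b.2) a.2) Q₁ h1 (by rw [mul_smul, e', inv_smul_smul])
        exact (Subtype.ext (inv_mul_eq_one.1 this)).symm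
      have hsurj : Function.Surjective F := by
        haveI : Fintype (Sylow 7 G) := Fintype.ofFinite _
        refine ((Nat.bijective_iff_injective_and_card F).2 ⟨hF, ?_⟩).2
        classical
        rw [hC, Nat.card_eq_fintype_card, Fintype.card_subtype_compl, Fintype.card_subtype_eq,
          ← Nat.card_eq_fintype_card, ← hn, h]
      obtain ⟨a, ha⟩ := hsurj ⟨Q₂, h2⟩
      have ha' : (a : G) • Q₁ = Q₂ := congrArg Subtype.val ha
      have h3 : (a : G)⁻¹ • Q₁ = Q₂ := by
        rw [← hinv a a.2, mul_smul, mul_smul, inv_smul_eq_iff.2 hf1.symm, ha', hf2]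
      have h4 : ((a : G) * a) • Q₁ = Q₁ := by
        rw [mul_smul, ha', ← h3, smul_inv_smul]
      have h5 := hfree _ (mul_mem a.2 a.2) Q₁ h1 h4
      have h6 : (a : G) = 1 := by
        have h7 : orderOf (a : G) ∣ 2 := orderOf_dvd_of_pow_eq_one (by rw [pow_two]; exact h5)
        have h8 : orderOf (a : G) ∣ 35 := hC ▸ Subgroup.orderOf_dvd_natCard C a.2
        exact orderOf_eq_one_iff.1 (Nat.eq_one_of_dvd_coprimes (show Nat.Coprime 2 35 by norm_num) h7 h8)
      rw [← ha', h6, one_smul]
    obtain ⟨h4, -⟩ := fixed_mod_four hG hne hy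
    rw [← hn, h] at h4
    have hle2 : Nat.card {Q : Sylow 7 G // y • Q = Q} ≤ 2 := by
      classical
      let T : {Q : Sylow 7 G // y • Q = Q} → Bool := fun Q => decide (Q.1 = P)
      have hT : Function.Injective T := fun Q₁ Q₂ e => by
        simp only [T, decide_eq_decide] at e
        refine Subtype.ext ?_
        by_cases h1 : Q₁.1 = P
        · rw [h1, e.1 h1]
        · exact huniq _ _ h1 (fun h2 => h1 (e.2 h2)) Q₁.2 Q₂.2
      simpa using Nat.card_le_card_of_injective T hT
    have hpos : 0 < Nat.card {Q : Sylow 7 G // y • Q = Q} :=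
      Nat.card_pos_iff.2 ⟨⟨⟨P, hyP⟩⟩, inferInstance⟩
    omega
  · -- one hundred and twenty
    have hN : Nat.card N = 21 := by omega
    have hC : Nat.card C = 7 := by
      rw [hN] at heC
      have : L.e ≤ 6 := Nat.le_of_dvd (by norm_num) he6
      interval_cases L.e <;> omega
    rw [← hP, Subgroup.eq_of_le_of_card_ge (show (P : Subgroup G) ≤ C from fun z hz => by
      rw [hP] at hz; obtain ⟨i, rfl⟩ := hz
      exact (hmemC _).2 ((Commute.refl g).zpow_right i)) (by rw [hC, hPc])]
    exact (hmemC y).2 hgy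

theorem Big.five (hB : Big G) [Fact (Nat.Prime 5)] (P : Sylow 5 G) :
    Nat.card (P : Subgroup G) = 5 ∧
    ((Nat.card (Sylow 5 G) = 21 ∧ Nat.card (Subgroup.normalizer ((P : Subgroup G) : Set G)) = 120) ∨
     (Nat.card (Sylow 5 G) = 126 ∧ Nat.card (Subgroup.normalizer ((P : Subgroup G) : Set G)) = 20)) := by
  haveI : Fact (Nat.Prime 7) := ⟨by norm_num⟩
  obtain ⟨hPc, hP0, hPt, n, hn, -, -, hn8, hnN, hmem⟩ :=
    hB.sylow (p := 5) (k := 1) (m := 504) (by norm_num) (by norm_num) one_pos (by norm_num) P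
  rw [pow_one] at hPc
  rw [show (Nat.divisors 504).filter (fun d => d % 5 = 1) = {1, 6, 21, 36, 56, 126} by decide +kernel] at hmem
  simp only [Finset.mem_insert, Finset.mem_singleton] at hmem
  refine ⟨hPc, ?_⟩
  rcases hmem with h | h | h | h | h | h <;> rw [h] at hnN
  · omega
  · omega
  · exact Or.inl ⟨by omega, by omega⟩
  · exfalso
    obtain ⟨⟨g, hgN⟩, hg⟩ := exists_prime_orderOf_dvd_card'
      (G := Subgroup.normalizer ((P : Subgroup G) : Set G)) 7 (by omega)
    rw [Subgroup.orderOf_mk] at hg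
    have hgC := mem_centralizer_of_coprime hPc hgN (by rw [hg]; norm_num)
    obtain ⟨⟨c, hcP⟩, hc⟩ := exists_prime_orderOf_dvd_card' (G := (P : Subgroup G)) 5 (by rw [hPc])
    rw [Subgroup.orderOf_mk] at hc
    have h1 := Subgroup.orderOf_dvd_natCard _ (hB.seven hg (hgC c hcP).symm)
    rw [hc, Nat.card_zpowers, hg] at h1
    norm_num at h1
  · exfalso
    obtain ⟨L⟩ := SmallOrd.exists_localData P hPc (by rw [hB.1]; norm_num)
    have h1 : Nat.card (Subgroup.normalizer ((P : Subgroup G) : Set G)) = 45 := by omega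
    have h2 := L.e_mul
    rw [L.hN, h1] at h2
    have h3 := L.e_dvd
    have h4 := L.e_ne
    have : L.e ≤ 4 := Nat.le_of_dvd (by norm_num) h3
    interval_cases L.e <;> omega
  · exact Or.inr ⟨by omega, by omega⟩

theorem Big.three (hB : Big G) [Fact (Nat.Prime 3)] (T : Sylow 3 G) :
    Nat.card (T : Subgroup G) = 9 ∧ Nat.card (Sylow 3 G) = 70 ∧
      Nat.card (Subgroup.normalizer ((T : Subgroup G) : Set G)) = 36 := by
  haveI : Fact (Nat.Prime 7) := ⟨by norm_num⟩
  haveI : Fact (Nat.Prime 5) := ⟨by norm_num⟩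
  obtain ⟨hTc, hT0, hTt, n, hn, -, -, hn8, hnN, hmem⟩ :=
    hB.sylow (p := 3) (k := 2) (m := 280) (by norm_num) (by norm_num) two_pos (by norm_num) T
  rw [show (3 : ℕ) ^ 2 = 9 by norm_num] at hTc
  rw [show (Nat.divisors 280).filter (fun d => d % 3 = 1) = {1, 4, 7, 10, 28, 40, 70, 280} by decide +kernel] at hmem
  refine ⟨hTc, ?_⟩
  set N := Subgroup.normalizer ((T : Subgroup G) : Set G)
  have h7 : ¬ 7 ∣ Nat.card N := fun h => by
    obtain ⟨⟨g, hgN⟩, hg⟩ := exists_prime_orderOf_dvd_card' (G := N) 7 h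
    rw [Subgroup.orderOf_mk] at hg
    have h1 := card_fixed_mod (IsPGroup.of_card (n := 1) (by rw [Nat.card_zpowers, hg, pow_one])) hgN
    rw [hTc] at h1
    have h2 : Nat.card ↥((T : Subgroup G) ⊓ Subgroup.centralizer ({g} : Set G)) ∣ 9 :=
      hTc ▸ Subgroup.card_dvd_of_le inf_le_left
    have h3 : (T : Subgroup G) ⊓ Subgroup.centralizer ({g} : Set G) ≤ Subgroup.zpowers g := fun x hx =>
      hB.seven hg (Subgroup.mem_centralizer_singleton_iff.1 hx.2).symm
    have h4 := Subgroup.card_dvd_of_le h3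
    rw [Nat.card_zpowers, hg] at h4
    have h5 := Nat.eq_one_of_dvd_coprimes (show Nat.Coprime 9 7 by norm_num) h2 h4
    omega
  simp only [Finset.mem_insert, Finset.mem_singleton] at hmem
  rcases hmem with h | h | h | h | h | h | h | h <;> rw [h] at hnN
  · omega
  · omega
  · omega
  · omega
  · exfalso
    obtain ⟨⟨c, hcN⟩, hc⟩ := exists_prime_orderOf_dvd_card' (G := N) 5 (by omega)
    rw [Subgroup.orderOf_mk] at hc
    have h1 := card_fixed_mod (IsPGroup.of_card (n := 1) (by rw [Nat.card_zpowers, hc, pow_one])) hcN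
    rw [hTc] at h1
    have h2 : Nat.card ↥((T : Subgroup G) ⊓ Subgroup.centralizer ({c} : Set G)) ∣ 9 :=
      hTc ▸ Subgroup.card_dvd_of_le inf_le_left
    have h3 : Nat.card ↥((T : Subgroup G) ⊓ Subgroup.centralizer ({c} : Set G)) = 9 := by
      have := Nat.le_of_dvd (by norm_num) h2
      obtain ⟨k, hk⟩ := h2
      interval_cases Nat.card ↥((T : Subgroup G) ⊓ Subgroup.centralizer ({c} : Set G)) <;> omega
    obtain ⟨R, hR⟩ := exists_sylow_zpowers (p := 5) (m := 504) (by rw [hB.1]) (by norm_num) hc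
    obtain ⟨-, hh⟩ := hB.five R
    have h4 : 9 ∣ Nat.card (Subgroup.normalizer ((R : Subgroup G) : Set G)) := by
      refine h3 ▸ Subgroup.card_dvd_of_le (inf_le_right.trans ?_)
      rw [hR, ← Subgroup.centralizer_closure, ← Subgroup.zpowers_eq_closure]
      exact Subgroup.centralizer_le_normalizer _
    omega
  · omega
  · exact ⟨by omega, by omega⟩
  · exfalso
    haveI : IsMulCommutative (T : Subgroup G) := IsPGroup.isMulCommutative_of_card_eq_prime_sq (p := 3) hTc
    exact SmallOrd.not_normalizer_le_centralizer T hT0 hTt (by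
      rw [← Subgroup.eq_of_le_of_card_ge (Subgroup.le_normalizer (H := (T : Subgroup G))) (by show Nat.card N ≤ _; omega)]
      exact (T : Subgroup G).le_centralizer)

end CfsgLib.AltSevenRecog
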