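import Mathlib
import Cfsg.Agent.AltSevenRecog.Odd
import Cfsg.Agent.S0107
import Cfsg.Agent.S0514
import Cfsg.Agent.S0848
import Cfsg.Agent.S0215
import Cfsg.Agent.S0219
import Cfsg.Agent.QDWr.Recognition

/-!
The involutions of a simple group of order 2520 without subgroups of index at most seven.
-/

set_option autoImplicit false
set_option linter.style.haveILetI false

namespace CfsgLib.AltSevenRecog

universe u

variable {G : Type u} [Group G] [Finite G]

theorem mem_cz {t x : G} : x ∈ Subgroup.centralizer ({t} : Set G) ↔ Commute x t :=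
  Subgroup.mem_centralizer_singleton_iff

theorem mem_cz_zpowers {c x : G} :
    x ∈ Subgroup.centralizer ((Subgroup.zpowers c : Subgroup G) : Set G) ↔ Commute x c := by
  rw [Subgroup.zpowers_eq_closure, Subgroup.centralizer_closure]
  exact mem_cz

/-- The elements of order dividing `p ^ k` are few. -/
theorem card_pElements_le {p k : ℕ} [Fact p.Prime] (hP : ∀ P : Sylow p G, Nat.card (P : Subgroup G) = p ^ k) :
    Nat.card {w : G // w ≠ 1 ∧ orderOf w ∣ p ^ k} ≤ Nat.card (Sylow p G) * (p ^ k - 1) := by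
  classical
  haveI := Fintype.ofFinite (Sylow p G)
  have key : ∀ w : {w : G // w ≠ 1 ∧ orderOf w ∣ p ^ k}, ∃ P : Sylow p G, w.1 ∈ (P : Subgroup G) := fun w => by
    obtain ⟨j, -, hj⟩ := (Nat.dvd_prime_pow (Fact.out : p.Prime)).1 w.2.2
    obtain ⟨P, hPle⟩ := (IsPGroup.of_card (p := p) (n := j)
      (show Nat.card (Subgroup.zpowers w.1) = p ^ j by rw [Nat.card_zpowers, hj])).exists_le_sylow
    exact ⟨P, hPle (Subgroup.mem_zpowers _)⟩
  choose P hP' using key
  let f : {w : G // w ≠ 1 ∧ orderOf w ∣ p ^ k} → Σ P : Sylow p G, {x : (P : Subgroup G) // x ≠ 1} :=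
    fun w => ⟨P w, ⟨w.1, hP' w⟩, fun e => w.2.1 (congrArg Subtype.val e)⟩
  have hf : Function.Injective f := fun a b e =>
    Subtype.ext (congrArg (fun z : Σ P : Sylow p G, {x : (P : Subgroup G) // x ≠ 1} => ((z.2.1 : (z.1 : Subgroup G)) : G)) e)
  refine (Nat.card_le_card_of_injective f hf).trans (le_of_eq ?_)
  have h1 : ∀ Q : Sylow p G, Nat.card {x : (Q : Subgroup G) // x ≠ 1} = p ^ k - 1 := fun Q => by
    haveI := Fintype.ofFinite (Q : Subgroup G)
    rw [Nat.card_eq_fintype_card, Fintype.card_subtype_compl, Fintype.card_subtype_eq, ← hP Q,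
      Nat.card_eq_fintype_card]
  rw [Nat.card_sigma, Finset.sum_congr rfl fun Q _ => h1 Q, Finset.sum_const, Finset.card_univ, smul_eq_mul,
    Nat.card_eq_fintype_card]

variable [IsSimpleGroup G]

/-- No involution is isolated. -/
theorem Big.exists_conj (hB : Big G) (S : Sylow 2 G) {u : G} (hu : orderOf u = 2) (huS : u ∈ (S : Subgroup G)) :
    ∃ g : G, g * u * g⁻¹ ∈ (S : Subgroup G) ∧ g * u * g⁻¹ ≠ u := by
  by_contra hcon
  push Not at hcon
  obtain ⟨N, hN, hodd, hcom⟩ := Cfsg.Agent.S0215.result S u hu huS hcon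
  rcases hN.eq_bot_or_eq_top with e | e
  · subst e
    have hc : u ∈ Subgroup.center G := Subgroup.mem_center_iff.2 fun g => by
      have h := Subgroup.mem_bot.1 (hcom g)
      exact (mul_inv_eq_iff_eq_mul.1 (mul_inv_eq_one.1 h)).symm
    rcases (inferInstance : (Subgroup.center G).Normal).eq_bot_or_eq_top with e | e
    · rw [e, Subgroup.mem_bot] at hc
      rw [hc, orderOf_one] at hu
      omega
    · exact hB.not_comm ⟨⟨fun a b => (Subgroup.mem_center_iff.1 (e ▸ Subgroup.mem_top b) a)⟩⟩
  · rw [e, Subgroup.card_top, hB.1] at hodd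
    exact absurd hodd (by decide)

theorem Big.sylow_two (hB : Big G) [Fact (Nat.Prime 2)] (S : Sylow 2 G) :
    Nat.card (S : Subgroup G) = 8 ∧ ∃ n, n = Nat.card (Sylow 2 G) ∧ n ∣ 315 ∧ 8 ≤ n ∧
      n * Nat.card (Subgroup.normalizer ((S : Subgroup G) : Set G)) = 2520 := by
  obtain ⟨hS, -, -, n, hn, hd, -, h8, hmul, -⟩ :=
    hB.sylow (p := 2) (k := 3) (m := 315) (by norm_num) (by norm_num) three_pos (by norm_num) S
  exact ⟨hS, n, hn, hd, h8, hmul⟩

theorem Big.card_cent_le (hB : Big G) {t : G} (ht : t ≠ 1) : Nat.card (Subgroup.centralizer ({t} : Set G)) ≤ 315 := by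
  refine hB.card_le fun e => ?_
  have hc : t ∈ Subgroup.center G := Subgroup.mem_center_iff.2 fun g => (mem_cz.1 (e ▸ Subgroup.mem_top g))
  rcases (inferInstance : (Subgroup.center G).Normal).eq_bot_or_eq_top with e | e
  · exact ht (Subgroup.mem_bot.1 (e ▸ hc))
  · exact hB.not_comm ⟨⟨fun a b => (Subgroup.mem_center_iff.1 (e ▸ Subgroup.mem_top b) a)⟩⟩

theorem Big.not_seven_dvd (hB : Big G) {t : G} (ht : orderOf t = 2) :
    ¬ 7 ∣ Nat.card (Subgroup.centralizer ({t} : Set G)) := fun h => by
  haveI : Fact (Nat.Prime 7) := ⟨by norm_num⟩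
  obtain ⟨⟨g, hgC⟩, hg⟩ := exists_prime_orderOf_dvd_card' (G := Subgroup.centralizer ({t} : Set G)) 7 h
  rw [Subgroup.orderOf_mk] at hg
  have h1 := Subgroup.orderOf_dvd_natCard _ (hB.seven hg (mem_cz.1 hgC))
  rw [ht, Nat.card_zpowers, hg] at h1
  norm_num at h1

/-- Involutions centralise no element of order five. -/
theorem Big.not_five (hB : Big G) [MulAction.IsPretransitive G (Inv G)]
    (h8 : ∀ t : Inv G, 8 ∣ Nat.card (Subgroup.centralizer ({t.1} : Set G)))
    (hmany : ∀ t : Inv G, 5 ≤ Nat.card {s : Inv G // Commute s.1 t.1}) (t : Inv G) :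
    ¬ 5 ∣ Nat.card (Subgroup.centralizer ({t.1} : Set G)) := by
  haveI : Fact (Nat.Prime 5) := ⟨by norm_num⟩
  intro h5
  have hG := hB.not_comm
  obtain ⟨m, hm⟩ : 40 ∣ Nat.card (Subgroup.centralizer ({t.1} : Set G)) :=
    (show Nat.Coprime 8 5 by norm_num).mul_dvd_of_dvd_of_dvd (h8 t) h5
  have hm315 := hB.card_cent_le (t := t.1) (fun e => by simpa [e] using t.2)
  have hInv := card_inv (t := t)
  rw [hm, hB.1] at hInv
  have hmd : 40 * m ∣ 2520 := hB.1 ▸ hm ▸ Subgroup.card_subgroup_dvd_card _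
  have hm7 : ¬ 7 ∣ 40 * m := hm ▸ hB.not_seven_dvd t.2
  have hm13 : m = 1 ∨ m = 3 := by
    have hm8 : m ≤ 7 := by omega
    obtain ⟨d, hd⟩ := hmd
    interval_cases m <;> omega
  obtain ⟨⟨c, hcC⟩, hc⟩ := exists_prime_orderOf_dvd_card' (G := Subgroup.centralizer ({t.1} : Set G)) 5 h5
  rw [Subgroup.orderOf_mk] at hc
  obtain ⟨R, hR⟩ := exists_sylow_zpowers (p := 5) (m := 504) (by rw [hB.1]) (by norm_num) hc
  obtain ⟨hRc, hh⟩ := hB.five R
  rcases hh with ⟨hn, -⟩ | ⟨-, hN⟩
  · -- each involution fixes one Sylow five subgroup only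
    have hone : ∀ s : Inv G, ∃ Q : Sylow 5 G, (∀ P : Sylow 5 G, s.1 • P = P ↔ P = Q) ∧
        ∃ d : G, orderOf d = 5 ∧ d ∈ (Q : Subgroup G) ∧ Commute d s.1 := by
      intro s
      obtain ⟨g, rfl⟩ := MulAction.exists_smul_eq G t s
      have hd : orderOf (MulAut.conj g c) = 5 := by rw [MulEquiv.orderOf_eq, hc]
      have hdC : Commute (g * c * g⁻¹) (g * t.1 * g⁻¹) := commute_conj g (mem_cz.1 hcC)
      obtain ⟨Q, hQ⟩ := exists_sylow_zpowers (p := 5) (m := 504) (by rw [hB.1]) (by norm_num) hd
      have hQc : Nat.card (Q : Subgroup G) = 5 := (hB.five Q).1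
      have hdQ : MulAut.conj g c ∈ (Q : Subgroup G) := hQ ▸ Subgroup.mem_zpowers _
      have hu := fixes_only Q hQc hd hdQ
      have hdC' : Commute (MulAut.conj g c) (g • t).1 := hdC
      have hfix : (g • t).1 • Q = Q := by
        refine (hu _).1 ?_
        rw [← mul_smul, hdC'.eq, mul_smul, (hu Q).2 rfl]
      have hne : ∃ (x : G) (P : Sylow 5 G), x • P ≠ P := by
        by_contra hcon
        push Not at hcon
        have : Subsingleton (Sylow 5 G) := ⟨fun A B => by
          obtain ⟨x, hx⟩ := MulAction.exists_smul_eq G A B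
          rw [← hx, hcon]⟩
        rw [Nat.card_of_subsingleton R] at hn
        omega
      obtain ⟨h4, hlt⟩ := fixed_mod_four hG hne (g • t).2
      have h5' := fixed_mod_prime hd hdC' Q hu
      rw [hn] at h4 hlt
      have h1 : Nat.card {P : Sylow 5 G // (g • t).1 • P = P} = 1 := by omega
      refine ⟨Q, fun P => ⟨fun hP => ?_, fun hP => hP ▸ hfix⟩, _, hd, hdQ, ?_⟩
      · have := (Nat.card_eq_one_iff_unique.1 h1).1
        exact congrArg Subtype.val (this.elim ⟨P, hP⟩ ⟨Q, hfix⟩)
      · exact hdC'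
    choose f hf d hd5 hdf hds using hone
    have hcent : ∀ (s : Inv G) (P : Sylow 5 G),
        s.1 ∈ Subgroup.centralizer ((P : Subgroup G) : Set G) ↔ f s = P := by
      intro s P
      constructor
      · intro h
        exact ((hf s P).1 (Sylow.smul_eq_iff_mem_normalizer.2 (Subgroup.centralizer_le_normalizer _ h))).symm
      · rintro rfl
        have hz : Subgroup.zpowers (d s) = (f s : Subgroup G) := Subgroup.eq_of_le_of_card_ge
          (Subgroup.zpowers_le.2 (hdf s)) (by rw [Nat.card_zpowers, hd5, (hB.five (f s)).1])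
        rw [← hz, mem_cz_zpowers]
        exact (hds s).symm
    have hequiv : ∀ (g : G) (s : Inv G), f (g • s) = g • f s := fun g s => by
      refine ((hf (g • s) (g • f s)).1 ?_).symm
      rw [inv_smul_def, ← mul_smul, inv_mul_cancel_right, mul_smul, (hf s (f s)).2 rfl]
    have hinc := incidence (G := G) (fun (s : Inv G) (P : Sylow 5 G) => f s = P)
      (fun g s P h => by rw [hequiv, h]) t (f t)
    have h1 : Nat.card {P : Sylow 5 G // f t = P} = 1 :=
      Nat.card_eq_one_iff_unique.2 ⟨⟨fun a b => Subtype.ext (a.2.symm.trans b.2)⟩, ⟨⟨f t, rfl⟩⟩⟩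
    rw [h1, mul_one, hn] at hinc
    have h5' : 5 ≤ Nat.card {s : Inv G // f s = f t} := by
      refine (hmany t).trans (Nat.card_le_card_of_injective (fun s => ⟨s.1, ?_⟩) fun a b e =>
        Subtype.ext (congrArg (fun z : {s : Inv G // f s = f t} => z.1) e))
      refine (hf t (f s.1)).1 ?_ |>.symm.symm
      refine (hf s.1 _).1 ?_
      rw [← mul_smul, s.2.eq, mul_smul, (hf s.1 (f s.1)).2 rfl]
    rcases hm13 with rfl | rfl <;> omega
  · -- the normaliser of order twenty
    have hcle : Subgroup.centralizer ((R : Subgroup G) : Set G) ≤ Subgroup.normalizer ((R : Subgroup G) : Set G) :=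
      Subgroup.centralizer_le_normalizer _
    rcases hm13 with rfl | rfl
    · set H := Subgroup.centralizer ({t.1} : Set G)
      have hRH : (R : Subgroup G) ≤ H := hR ▸ Subgroup.zpowers_le.2 hcC
      have h1 : Nat.card (Sylow 5 H) = 1 := by
        have hm5 := card_sylow_modEq_one 5 H
        have h2 := (R.subtype hRH).card_dvd_index
        have h3 := Subgroup.card_mul_index (R.subtype hRH : Subgroup H)
        rw [Sylow.coe_subtype, Nat.card_congr (Subgroup.subgroupOfEquivOfLe hRH).toEquiv, hRc, hm] at h3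
        rw [Sylow.coe_subtype, show ((R : Subgroup G).subgroupOf H).index = 8 by omega] at h2
        have := Nat.le_of_dvd (by norm_num) h2
        unfold Nat.ModEq at hm5
        interval_cases Nat.card (Sylow 5 H) <;> omega
      have h2 : H ≤ Subgroup.normalizer ((R : Subgroup G) : Set G) := by
        haveI : Subsingleton (Sylow 5 H) := (Nat.card_eq_one_iff_unique.1 h1).1
        haveI : ((R.subtype hRH : Sylow 5 H) : Subgroup H).Normal :=
          Sylow.normal_of_subsingleton _
        haveI : ((R : Subgroup G).subgroupOf H).Normal := by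
          have h := ‹((R.subtype hRH : Sylow 5 H) : Subgroup H).Normal›
          rwa [Sylow.coe_subtype] at h
        exact Subgroup.le_normalizer_of_normal_subgroupOf hRH
      have := Subgroup.card_le_of_le h2
      omega
    · -- twenty-one involutions
      have hI : Nat.card (Inv G) = 21 := by omega
      have hu : ∀ s : Inv G, c • s = s ↔ s = t := by
        have ht0 : c • t = t := (smul_inv_eq_self_iff c t).2 (mem_cz.1 hcC)
        have hmod := (IsPGroup.of_card (p := 5) (n := 1)
          (show Nat.card (Subgroup.zpowers c) = 5 ^ 1 by rw [Nat.card_zpowers, hc, pow_one])).card_modEq_card_fixedPoints (Inv G)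
        rw [hI] at hmod
        have e : Nat.card (MulAction.fixedPoints (Subgroup.zpowers c) (Inv G)) = Nat.card {s : Inv G // c • s = s} :=
          Nat.card_congr (Equiv.subtypeEquivRight fun s => ⟨fun h => h ⟨c, Subgroup.mem_zpowers c⟩, fun h x =>
            MulAction.mem_stabilizer_iff.1 ((Subgroup.zpowers_le.2 (MulAction.mem_stabilizer_iff.2 h)) x.2)⟩)
        rw [e, Nat.ModEq] at hmod
        -- the centraliser of `c` has order at most ten
        obtain ⟨L⟩ := SmallOrd.exists_localData R hRc (by rw [hB.1]; norm_num)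
        have hC10 : Nat.card (Subgroup.centralizer ((R : Subgroup G) : Set G)) ≤ 10 := by
          have h1 := L.e_mul
          rw [L.hN, L.hC, hN] at h1
          have h2 := L.e_ne
          have h3 : L.e ≤ 4 := Nat.le_of_dvd (by norm_num) L.e_dvd
          interval_cases L.e <;> omega
        have hle : Nat.card {s : Inv G // c • s = s} ≤ 5 := by
          have h1 : Nat.card {s : Inv G // c • s = s} + Nat.card (Subgroup.zpowers c) ≤
              Nat.card (Subgroup.centralizer ((R : Subgroup G) : Set G)) := by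
            rw [← Nat.card_sum]
            let F : {s : Inv G // c • s = s} ⊕ Subgroup.zpowers c → Subgroup.centralizer ((R : Subgroup G) : Set G) :=
              Sum.elim (fun s => ⟨s.1.1, by
                  rw [hR, mem_cz_zpowers]; exact ((smul_inv_eq_self_iff c s.1).1 s.2).symm⟩)
                (fun x => ⟨x, by
                  rw [hR, mem_cz_zpowers]
                  obtain ⟨i, hi⟩ := x.2
                  change c ^ i = (x : G) at hi
                  rw [← hi]; exact (Commute.refl c).zpow_left i⟩)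
            refine Nat.card_le_card_of_injective F ?_
            have hne : ∀ (s : {s : Inv G // c • s = s}) (x : Subgroup.zpowers c), (s.1.1 : G) ≠ x := fun s x e => by
              have h1 := Subgroup.orderOf_dvd_natCard _ (e ▸ x.2 : s.1.1 ∈ Subgroup.zpowers c)
              rw [s.1.2, Nat.card_zpowers, hc] at h1
              norm_num at h1
            rintro (a | a) (b | b) e
            · exact congrArg Sum.inl (Subtype.ext (Subtype.ext (congrArg Subtype.val e :)))
            · exact absurd (congrArg Subtype.val e :) (hne a b)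
            · exact absurd (congrArg Subtype.val e :).symm (hne b a)
            · exact congrArg Sum.inr (Subtype.ext (congrArg Subtype.val e :))
          rw [Nat.card_zpowers, hc] at h1
          omega
        have hpos : 0 < Nat.card {s : Inv G // c • s = s} := Nat.card_pos_iff.2 ⟨⟨⟨t, ht0⟩⟩, inferInstance⟩
        have h1 : Nat.card {s : Inv G // c • s = s} = 1 := by omega
        intro s
        refine ⟨fun hs => ?_, fun hs => hs ▸ ht0⟩
        exact congrArg Subtype.val ((Nat.card_eq_one_iff_unique.1 h1).1.elim ⟨s, hs⟩ ⟨t, ht0⟩)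
      have hne : ∃ (x : G) (s : Inv G), x • s ≠ s := by
        by_contra hcon
        push Not at hcon
        have : Subsingleton (Inv G) := ⟨fun a b => by
          obtain ⟨x, hx⟩ := MulAction.exists_smul_eq G a b
          rw [← hx, hcon]⟩
        rw [Nat.card_of_subsingleton t] at hI
        omega
      obtain ⟨h4, hlt⟩ := fixed_mod_four hG hne t.2
      have h1 := fixed_mod_prime hc (mem_cz.1 hcC) t hu
      have h2 : 5 ≤ Nat.card {s : Inv G // t.1 • s = s} := (hmany t).trans (le_of_eq
        (Nat.card_congr (Equiv.subtypeEquivRight fun s => by rw [smul_inv_eq_self_iff]; exact ⟨Commute.symm, Commute.symm⟩)))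
      rw [hI] at h4 hlt
      omega

/-- The Sylow two-subgroups are not elementary abelian. -/
theorem Big.not_elementary (hB : Big G) [Fact (Nat.Prime 2)] (S : Sylow 2 G) :
    ¬ ∀ s ∈ (S : Subgroup G), s * s = 1 := by
  intro hel
  haveI : Fact (Nat.Prime 3) := ⟨by norm_num⟩
  haveI : Fact (Nat.Prime 5) := ⟨by norm_num⟩
  haveI : Fact (Nat.Prime 7) := ⟨by norm_num⟩
  have hG := hB.not_comm
  obtain ⟨hS8, n, hn, hn315, hn8, hnN⟩ := hB.sylow_two S
  have helT : ∀ T : Sylow 2 G, ∀ s ∈ (T : Subgroup G), s * s = 1 := by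
    intro T s hs
    obtain ⟨g, rfl⟩ := MulAction.exists_smul_eq G S T
    rw [Sylow.coe_subgroup_smul, Subgroup.mem_pointwise_smul_iff_inv_smul_mem] at hs
    have h := hel _ hs
    rw [← smul_mul', MulAut.smul_def] at h
    exact (MulEquiv.map_eq_one_iff _).1 h
  have hcom : ∀ a ∈ (S : Subgroup G), ∀ b ∈ (S : Subgroup G), Commute a b := fun a ha b hb => by
    have hi : ∀ x ∈ (S : Subgroup G), x⁻¹ = x := fun x hx => inv_eq_of_mul_eq_one_right (hel x hx)
    show a * b = b * a
    rw [← hi _ (mul_mem ha hb), mul_inv_rev, hi a ha, hi b hb]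
  haveI : IsMulCommutative (S : Subgroup G) := ⟨⟨fun a b => Subtype.ext (hcom a a.2 b b.2)⟩⟩
  set N := Subgroup.normalizer ((S : Subgroup G) : Set G) with hNdef
  have hSN : (S : Subgroup G) ≤ N := Subgroup.le_normalizer
  have h7 : 7 ∣ Nat.card N := by
    by_contra h7
    obtain ⟨T0⟩ : Nonempty (Sylow 3 N) := inferInstance
    let T : Subgroup G := (T0 : Subgroup N).map N.subtype
    have hTN : T ≤ N := Subgroup.map_subtype_le _
    have hT3 : IsPGroup 3 T := T0.2.map _
    have hTc : Nat.card T = 3 ^ (Nat.card N).factorization 3 := by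
      rw [Subgroup.card_map_of_injective N.subtype_injective]; exact T0.card_eq_multiplicity
    let act : MulAction T (S : Subgroup G) :=
      { smul := fun g x => ⟨(g : G) * x * (g : G)⁻¹, (Subgroup.mem_normalizer_iff.1 (hTN g.2) _).1 x.2⟩
        one_smul := fun x => Subtype.ext (by show (1 : G) * x * (1 : G)⁻¹ = x; simp)
        mul_smul := fun g h x => Subtype.ext (by
          show ((g * h : T) : G) * x * ((g * h : T) : G)⁻¹ = (g : G) * ((h : G) * x * (h : G)⁻¹) * (g : G)⁻¹
          rw [Subgroup.coe_mul]; group) }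
    have hmod := hT3.card_modEq_card_fixedPoints (S : Subgroup G)
    rw [hS8, Nat.ModEq] at hmod
    obtain ⟨u, hu1⟩ : ∃ u : MulAction.fixedPoints T (S : Subgroup G), (u : (S : Subgroup G)) ≠ 1 := by
      by_contra hcon
      push Not at hcon
      have : Nat.card (MulAction.fixedPoints T (S : Subgroup G)) = 1 :=
        Nat.card_eq_one_iff_unique.2 ⟨⟨fun a b => Subtype.ext ((hcon a).trans (hcon b).symm)⟩,
          ⟨⟨1, fun g => Subtype.ext (by show (g : G) * (1 : G) * (g : G)⁻¹ = 1; simp)⟩⟩⟩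
      omega
    have huS : ((u : (S : Subgroup G)) : G) ∈ (S : Subgroup G) := (u : (S : Subgroup G)).2
    have hu2 : orderOf ((u : (S : Subgroup G)) : G) = 2 :=
      orderOf_eq_prime (by rw [pow_two]; exact hel _ huS) (fun e => hu1 (Subtype.ext e))
    set M := N ⊓ Subgroup.centralizer ({((u : (S : Subgroup G)) : G)} : Set G) with hM
    have hSM : (S : Subgroup G) ≤ M := le_inf hSN fun x hx => mem_cz.2 (hcom x hx _ huS)
    have hTM : T ≤ M := le_inf hTN fun g hg => mem_cz.2 (by
      have h1 : g * ((u : (S : Subgroup G)) : G) * g⁻¹ = ((u : (S : Subgroup G)) : G) :=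
        congrArg Subtype.val (u.2 ⟨g, hg⟩)
      exact mul_inv_eq_iff_eq_mul.1 h1)
    have h5M : 5 ∣ Nat.card N → 5 ∣ Nat.card M := fun h5 => by
      obtain ⟨⟨c, hcN⟩, hc⟩ := exists_prime_orderOf_dvd_card' (G := N) 5 h5
      rw [Subgroup.orderOf_mk] at hc
      have h1 := card_fixed_mod (IsPGroup.of_card (n := 1) (by rw [Nat.card_zpowers, hc, pow_one])) hcN
      rw [hS8] at h1
      have h2 : Nat.card ↥((S : Subgroup G) ⊓ Subgroup.centralizer ({c} : Set G)) ∣ 8 :=
        hS8 ▸ Subgroup.card_dvd_of_le inf_le_left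
      have h3 : (S : Subgroup G) ⊓ Subgroup.centralizer ({c} : Set G) = S := by
        refine Subgroup.eq_of_le_of_card_ge inf_le_left ?_
        have := Nat.le_of_dvd (by norm_num) h2
        obtain ⟨k, hk⟩ := h2
        interval_cases Nat.card ↥((S : Subgroup G) ⊓ Subgroup.centralizer ({c} : Set G)) <;> omega
      have := Subgroup.orderOf_dvd_natCard M (show c ∈ M from
        ⟨hcN, mem_cz.2 (mem_cz.1 (h3.ge huS).2).symm⟩)
      rwa [hc] at this
    have hMN : N ≤ M := by
      refine (Subgroup.eq_of_le_of_card_ge inf_le_left ?_).ge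
      refine Nat.le_of_dvd Nat.card_pos ?_
      have hNd : Nat.card N ∣ 2520 := hB.1 ▸ Subgroup.card_subgroup_dvd_card N
      have h8M := hS8 ▸ Subgroup.card_dvd_of_le hSM
      have h3M : 3 ^ (Nat.card N).factorization 3 ∣ Nat.card M := hTc ▸ Subgroup.card_dvd_of_le hTM
      have hN0 : Nat.card N ≠ 0 := Nat.card_pos.ne'
      have hMd : Nat.card M ≠ 0 := Nat.card_pos.ne'
      rw [← Nat.factorization_le_iff_dvd hN0 hMd]
      intro q
      by_cases hq : q ∈ (Nat.card N).primeFactors
      · have hqp := Nat.prime_of_mem_primeFactors hq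
        have hqN := Nat.dvd_of_mem_primeFactors hq
        have hq' : q ∈ (2520 : ℕ).primeFactors :=
          Nat.mem_primeFactors.2 ⟨hqp, hqN.trans hNd, by norm_num⟩
        have hle := (Nat.factorization_le_iff_dvd hN0 (by norm_num)).2 hNd q
        rw [show (2520 : ℕ).primeFactors = {2, 3, 5, 7} by decide +kernel] at hq'
        simp only [Finset.mem_insert, Finset.mem_singleton] at hq'
        rcases hq' with rfl | rfl | rfl | rfl
        · rw [show (2520 : ℕ).factorization 2 = 3 by
            rw [show (2520 : ℕ) = 2 ^ 3 * 315 by norm_num, Nat.factorization_mul (by norm_num) (by norm_num),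
              Finsupp.add_apply, Nat.prime_two.factorization_pow, Finsupp.single_eq_same,
              Nat.factorization_eq_zero_of_not_dvd (by norm_num)]] at hle
          exact hle.trans ((Nat.prime_two.pow_dvd_iff_le_factorization hMd).1 h8M)
        · exact (Nat.prime_three.pow_dvd_iff_le_factorization hMd).1 h3M
        · rw [show (2520 : ℕ).factorization 5 = 1 by
            rw [show (2520 : ℕ) = 5 ^ 1 * 504 by norm_num, Nat.factorization_mul (by norm_num) (by norm_num),
              Finsupp.add_apply, (Fact.out : Nat.Prime 5).factorization_pow, Finsupp.single_eq_same,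
              Nat.factorization_eq_zero_of_not_dvd (by norm_num)]] at hle
          exact hle.trans ((Fact.out : Nat.Prime 5).factorization_pos_of_dvd hMd (h5M hqN))
        · exact absurd hqN h7
      · rw [← Nat.support_factorization, Finsupp.notMem_support_iff] at hq
        rw [hq]; exact Nat.zero_le _
    obtain ⟨g, hg, hgne⟩ := hB.exists_conj S hu2 huS
    obtain ⟨k, hk, hke⟩ := Sylow.conj_eq_normalizer_conj_of_mem S _ g⁻¹ huS (by rwa [inv_inv])
    apply hgne
    rw [inv_inv] at hke
    rw [hke, mul_assoc, ← (mem_cz.1 (hMN hk).2).eq, inv_mul_cancel_left]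
  obtain ⟨⟨g, hgN⟩, hg⟩ := exists_prime_orderOf_dvd_card' (G := N) 7 h7
  rw [Subgroup.orderOf_mk] at hg
  -- one class of involutions
  have hgfree : ∀ x ∈ (S : Subgroup G), Commute g x → x = 1 := fun x hx hgx => by
    have h1 := Subgroup.orderOf_dvd_natCard _ (hB.seven hg hgx)
    rw [Nat.card_zpowers, hg] at h1
    have h2 := hS8 ▸ Subgroup.orderOf_dvd_natCard _ hx
    exact orderOf_eq_one_iff.1 (Nat.eq_one_of_dvd_coprimes (show Nat.Coprime 7 8 by norm_num) h1 h2)
  have horb : ∀ u v : G, u ∈ (S : Subgroup G) → u ≠ 1 → v ∈ (S : Subgroup G) → v ≠ 1 →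
      ∃ k : ℤ, g ^ k * u * (g ^ k)⁻¹ = v := by
    intro u v hu hu1 hv hv1
    have hz : Subgroup.zpowers g ≤ N := Subgroup.zpowers_le.2 hgN
    let F : Subgroup.zpowers g → {x : (S : Subgroup G) // x ≠ 1} := fun k =>
      ⟨⟨(k : G) * u * (k : G)⁻¹, (Subgroup.mem_normalizer_iff.1 (hz k.2) u).1 hu⟩, fun e => hu1 (by
        have e' : (k : G) * u * (k : G)⁻¹ = 1 := congrArg Subtype.val e
        rwa [mul_inv_eq_one, mul_eq_left] at e')⟩
    have hF : Function.Injective F := by
      intro a b e
      have e' : (a : G) * u * (a : G)⁻¹ = (b : G) * u * (b : G)⁻¹ :=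
        congrArg (fun z : {x : (S : Subgroup G) // x ≠ 1} => ((z.1 : (S : Subgroup G)) : G)) e
      by_contra hab
      set k := b⁻¹ * a with hk
      have hk1 : k ≠ 1 := fun h => hab (inv_mul_eq_one.1 h).symm
      have hku : Commute (k : G) u := by
        refine mul_inv_eq_iff_eq_mul.1 ?_
        rw [hk, Subgroup.coe_mul, InvMemClass.coe_inv]
        calc (b : G)⁻¹ * a * u * ((b : G)⁻¹ * a)⁻¹ = (b : G)⁻¹ * ((a : G) * u * (a : G)⁻¹) * b := by group
          _ = u := by rw [e']; group
      have hko : orderOf (k : G) = 7 := by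
        have h1 : orderOf (k : G) ∣ 7 := by
          have := Subgroup.orderOf_dvd_natCard _ k.2
          rwa [Nat.card_zpowers, hg] at this
        exact ((Nat.dvd_prime (Fact.out : Nat.Prime 7)).1 h1).resolve_left fun h =>
          hk1 (Subtype.ext (orderOf_eq_one_iff.1 h))
      have h1 := Subgroup.orderOf_dvd_natCard _ (hB.seven hko hku)
      rw [Nat.card_zpowers, hko] at h1
      have h2 := hS8 ▸ Subgroup.orderOf_dvd_natCard _ hu
      exact hu1 (orderOf_eq_one_iff.1 (Nat.eq_one_of_dvd_coprimes (show Nat.Coprime 7 8 by norm_num) h1 h2))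
    have hsurj : Function.Surjective F := by
      refine ((Nat.bijective_iff_injective_and_card F).2 ⟨hF, ?_⟩).2
      classical
      haveI := Fintype.ofFinite (S : Subgroup G)
      rw [Nat.card_zpowers, hg, Nat.card_eq_fintype_card, Fintype.card_subtype_compl, Fintype.card_subtype_eq,
        ← Nat.card_eq_fintype_card, hS8]
    obtain ⟨⟨_, k, rfl⟩, hk⟩ := hsurj ⟨⟨v, hv⟩, fun e => hv1 (congrArg Subtype.val e)⟩
    exact ⟨k, congrArg (fun z : {x : (S : Subgroup G) // x ≠ 1} => ((z.1 : (S : Subgroup G)) : G)) hk⟩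
  have hmoveS : ∀ t : Inv G, ∃ x : G, (x • t).1 ∈ (S : Subgroup G) := by
    intro t
    obtain ⟨T, hT⟩ := (IsPGroup.of_card (p := 2) (n := 1)
      (show Nat.card (Subgroup.zpowers t.1) = 2 ^ 1 by rw [Nat.card_zpowers, t.2, pow_one])).exists_le_sylow
    obtain ⟨x, hx⟩ := MulAction.exists_smul_eq G T S
    refine ⟨x, ?_⟩
    rw [← hx, Sylow.coe_subgroup_smul, inv_smul_def]
    exact Subgroup.smul_mem_pointwise_smul _ _ _ (hT (Subgroup.mem_zpowers _))
  haveI : MulAction.IsPretransitive G (Inv G) := ⟨fun a b => by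
    obtain ⟨x, hx⟩ := hmoveS a
    obtain ⟨y, hy⟩ := hmoveS b
    obtain ⟨k, hk⟩ := horb _ _ hx (fun e => by simpa [e] using (x • a).2) hy (fun e => by simpa [e] using (y • b).2)
    refine ⟨y⁻¹ * g ^ k * x, ?_⟩
    rw [mul_smul, mul_smul, inv_smul_eq_iff]
    exact Subtype.ext hk⟩
  have hSt : ∀ t : Inv G, t.1 ∈ (S : Subgroup G) → (S : Subgroup G) ≤ Subgroup.centralizer ({t.1} : Set G) :=
    fun t ht x hx => mem_cz.2 (hcom x hx _ ht)
  have h8 : ∀ t : Inv G, 8 ∣ Nat.card (Subgroup.centralizer ({t.1} : Set G)) := by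
    intro t
    obtain ⟨x, hx⟩ := hmoveS t
    have h1 := hS8 ▸ Subgroup.card_dvd_of_le (hSt _ hx)
    have h2 := card_inv (t := x • t)
    rw [← card_inv (t := t)] at h2
    rwa [Nat.eq_of_mul_eq_mul_left (Nat.card_pos_iff.2 ⟨⟨t⟩, inferInstance⟩) h2] at h1
  obtain ⟨t0, ht0S⟩ : ∃ t : Inv G, t.1 ∈ (S : Subgroup G) := by
    obtain ⟨⟨s, hs⟩, hs2⟩ := exists_prime_orderOf_dvd_card' (G := (S : Subgroup G)) 2 (by rw [hS8]; norm_num)
    rw [Subgroup.orderOf_mk] at hs2
    exact ⟨⟨s, hs2⟩, hs⟩
  have hSinv : Nat.card {t : Inv G // t.1 ∈ (S : Subgroup G)} = 7 := by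
    classical
    haveI := Fintype.ofFinite (S : Subgroup G)
    have : Nat.card {x : (S : Subgroup G) // x ≠ 1} = 7 := by
      rw [Nat.card_eq_fintype_card, Fintype.card_subtype_compl, Fintype.card_subtype_eq,
        ← Nat.card_eq_fintype_card, hS8]
    rw [← this]
    exact Nat.card_congr
      { toFun := fun t => ⟨⟨t.1.1, t.2⟩, fun e => by
          have e' : t.1.1 = 1 := congrArg Subtype.val e
          simpa [e'] using t.1.2⟩
        invFun := fun x => ⟨⟨x.1.1, orderOf_eq_prime (by rw [pow_two]; exact hel _ x.1.2)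
          (fun e => x.2 (Subtype.ext e))⟩, x.1.2⟩
        left_inv := fun _ => rfl
        right_inv := fun _ => rfl }
  have hmany : ∀ t : Inv G, 5 ≤ Nat.card {s : Inv G // Commute s.1 t.1} := by
    intro t
    obtain ⟨x, hx⟩ := hmoveS t
    refine le_trans (b := Nat.card {s : Inv G // Commute s.1 (x • t).1}) ?_ (le_of_eq ?_)
    · refine le_trans (show 5 ≤ 7 by norm_num) (hSinv ▸ Nat.card_le_card_of_injective
        (fun s => ⟨s.1, hcom _ s.2 _ hx⟩) fun a b e =>
          Subtype.ext (congrArg (fun z : {s : Inv G // Commute s.1 (x • t).1} => z.1) e))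
    · refine (Nat.card_congr ((MulAction.toPerm x).subtypeEquiv fun s => ?_)).symm
      show Commute s.1 t.1 ↔ Commute (x • s).1 (x • t).1
      rw [inv_smul_def, inv_smul_def]
      exact ⟨commute_conj x, fun h => by simpa [mul_assoc] using commute_conj x⁻¹ h⟩
  have hno5 := hB.not_five h8 hmany
  -- the order of a centraliser
  obtain ⟨m, hm⟩ := h8 t0
  have hm5 := hno5 t0
  have hm7 := hB.not_seven_dvd t0.2
  have hmle := hB.card_cent_le (t := t0.1) (fun e => by simpa [e] using t0.2)
  have hmd : 8 * m ∣ 2520 := hB.1 ▸ hm ▸ Subgroup.card_subgroup_dvd_card _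
  rw [hm] at hm5 hm7 hmle
  have hmd' : m ∈ (Nat.divisors 315) := by
    rw [Nat.mem_divisors]
    exact ⟨Nat.dvd_of_mul_dvd_mul_left (show 0 < 8 by norm_num) (hmd.trans (by norm_num)), by norm_num⟩
  rw [show Nat.divisors 315 = {1, 3, 5, 7, 9, 15, 21, 35, 45, 63, 105, 315} by decide +kernel] at hmd'
  have hm139 : m = 1 ∨ m = 3 ∨ m = 9 := by
    simp only [Finset.mem_insert, Finset.mem_singleton] at hmd'
    omega
  have hNfive : ¬ 5 ∣ Nat.card N := fun h5 => by
    obtain ⟨⟨c, hcN⟩, hc⟩ := exists_prime_orderOf_dvd_card' (G := N) 5 h5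
    rw [Subgroup.orderOf_mk] at hc
    have h1 := card_fixed_mod (IsPGroup.of_card (n := 1) (by rw [Nat.card_zpowers, hc, pow_one])) hcN
    rw [hS8] at h1
    have h2 : Nat.card ↥((S : Subgroup G) ⊓ Subgroup.centralizer ({c} : Set G)) ∣ 8 :=
      hS8 ▸ Subgroup.card_dvd_of_le inf_le_left
    have h3 : (S : Subgroup G) ⊓ Subgroup.centralizer ({c} : Set G) = S := by
      refine Subgroup.eq_of_le_of_card_ge inf_le_left ?_
      have := Nat.le_of_dvd (by norm_num) h2
      obtain ⟨k, hk⟩ := h2
      interval_cases Nat.card ↥((S : Subgroup G) ⊓ Subgroup.centralizer ({c} : Set G)) <;> omega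
    have := Subgroup.orderOf_dvd_natCard (Subgroup.centralizer ({t0.1} : Set G))
      (mem_cz.2 (mem_cz.1 (h3.ge ht0S).2).symm : c ∈ _)
    rw [hc] at this
    exact hno5 t0 this
  have hN' : Nat.card N = 56 ∨ Nat.card N = 168 := by
    have h8N : 8 ∣ Nat.card N := hS8 ▸ Subgroup.card_dvd_of_le hSN
    obtain ⟨k, hk⟩ := (show Nat.Coprime 8 7 by norm_num).mul_dvd_of_dvd_of_dvd h8N h7
    rw [hk] at hnN hNfive
    have h1 : n * k = 45 := by
      rw [show n * (8 * 7 * k) = 56 * (n * k) by ring] at hnN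
      omega
    have h2 : k ∣ 45 := ⟨n, by rw [← h1, mul_comm]⟩
    have h3 : k ≤ 5 := by
      by_contra h
      have := Nat.mul_le_mul hn8 (show 6 ≤ k by omega)
      omega
    interval_cases k <;> omega
  -- the incidence of involutions and Sylow subgroups
  have hinc := incidence (G := G) (fun (t : Inv G) (T : Sylow 2 G) => t.1 ∈ (T : Subgroup G))
    (fun x t T h => by
      rw [Sylow.coe_subgroup_smul, inv_smul_def]
      exact Subgroup.smul_mem_pointwise_smul _ _ _ h) t0 S
  rw [hSinv, ← hn] at hinc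
  have hI : Nat.card (Inv G) * m = 315 := by
    have := card_inv (t := t0)
    rw [hm, hB.1] at this
    rw [show Nat.card (Inv G) * (8 * m) = 8 * (Nat.card (Inv G) * m) by ring] at this
    omega
  have hfixS : ∀ T : Sylow 2 G, t0.1 • T = T ↔ t0.1 ∈ (T : Subgroup G) := fun T =>
    ⟨mem_of_smul_eq (k := 1) (by rw [t0.2, pow_one]),
      fun h => Sylow.smul_eq_iff_mem_normalizer.2 (Subgroup.le_normalizer h)⟩
  have hne : ∃ (x : G) (T : Sylow 2 G), x • T ≠ T := by
    by_contra hcon
    push Not at hcon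
    have : Subsingleton (Sylow 2 G) := ⟨fun A B => by
      obtain ⟨x, hx⟩ := MulAction.exists_smul_eq G A B
      rw [← hx, hcon]⟩
    rw [Nat.card_of_subsingleton S] at hn
    omega
  obtain ⟨h4, -⟩ := fixed_mod_four hG hne t0.2
  rw [Nat.card_congr (Equiv.subtypeEquivRight hfixS), ← hn] at h4
  rcases hm139 with rfl | rfl | rfl
  · -- centralisers of order eight
    rw [mul_one] at hI
    rw [hI] at hinc
    rcases hN' with e | e <;> rw [e] at hnN
    swap
    · omega
    have hCel : ∀ t : Inv G, ∀ w, Commute w t.1 → w * w = 1 := by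
      intro t w hw
      have hc8 : Nat.card (Subgroup.centralizer ({t.1} : Set G)) = 8 := by
        have h2 := card_inv (t := t)
        rw [hI, hB.1] at h2
        omega
      obtain ⟨T, hT⟩ := (IsPGroup.of_card (p := 2) (n := 3)
        (show Nat.card (Subgroup.centralizer ({t.1} : Set G)) = 2 ^ 3 by rw [hc8]; norm_num)).exists_le_sylow
      exact helT T w (hT (mem_cz.2 hw))
    have hall : ∀ w : G, w = 1 ∨ orderOf w = 2 ∨ (w ≠ 1 ∧ orderOf w ∣ 7 ^ 1) ∨ (w ≠ 1 ∧ orderOf w ∣ 5 ^ 1) ∨
        (w ≠ 1 ∧ orderOf w ∣ 3 ^ 2) := by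
      intro w
      by_cases hw : w = 1
      · exact Or.inl hw
      have ho : orderOf w ∣ 2520 := hB.1 ▸ orderOf_dvd_natCard w
      by_cases h2 : 2 ∣ orderOf w
      · refine Or.inr (Or.inl ?_)
        have ht : orderOf (w ^ (orderOf w / 2)) = 2 := orderOf_pow_orderOf_div (orderOf_pos w).ne' h2
        exact orderOf_eq_prime (by rw [pow_two]; exact hCel ⟨_, ht⟩ w ((Commute.refl w).pow_right _)) hw
      by_cases h7' : 7 ∣ orderOf w
      · refine Or.inr (Or.inr (Or.inl ⟨hw, ?_⟩))
        have hg' : orderOf (w ^ (orderOf w / 7)) = 7 := orderOf_pow_orderOf_div (orderOf_pos w).ne' h7'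
        have := Subgroup.orderOf_dvd_natCard _ (hB.seven hg' ((Commute.refl w).pow_left _))
        rwa [Nat.card_zpowers, hg', ← pow_one 7] at this
      by_cases h5' : 5 ∣ orderOf w
      · refine Or.inr (Or.inr (Or.inr (Or.inl ⟨hw, ?_⟩)))
        have hc : orderOf (w ^ (orderOf w / 5)) = 5 := orderOf_pow_orderOf_div (orderOf_pos w).ne' h5'
        obtain ⟨R, hR⟩ := exists_sylow_zpowers (p := 5) (m := 504) (by rw [hB.1]) (by norm_num) hc
        obtain ⟨hRc, hh⟩ := hB.five R
        obtain ⟨L⟩ := SmallOrd.exists_localData R hRc (by rw [hB.1]; norm_num)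
        have hodd : ¬ 2 ∣ L.C := fun h => by
          obtain ⟨t, ht, htC⟩ := SmallOrd.exists_involution_centralizing (L.hC ▸ h)
          rw [hR, mem_cz_zpowers] at htC
          have := Subgroup.orderOf_dvd_natCard (Subgroup.centralizer ({t} : Set G)) (mem_cz.2 htC.symm)
          rw [hc] at this
          exact hno5 ⟨t, ht⟩ this
        have hC5 : L.C = 5 := by
          have h1 := L.e_mul
          rw [L.hN] at h1
          have h2 := L.e_ne
          obtain ⟨d, hd⟩ := L.p_dvd
          have h3 : L.e ≤ 4 := Nat.le_of_dvd (by norm_num) L.e_dvd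
          rcases hh with ⟨-, h⟩ | ⟨-, h⟩ <;> rw [h] at h1 <;> interval_cases L.e <;> omega
        have := Subgroup.orderOf_dvd_natCard _ (show w ∈ Subgroup.centralizer ((R : Subgroup G) : Set G) by
          rw [hR, mem_cz_zpowers]; exact (Commute.refl w).pow_right _)
        rwa [← L.hC, hC5] at this
      refine Or.inr (Or.inr (Or.inr (Or.inr ⟨hw, ?_⟩)))
      have h8' : Nat.Coprime (orderOf w) (8 * 5 * 7) := by
        refine Nat.Coprime.mul_right (Nat.Coprime.mul_right ?_ ?_) ?_
        · exact (Nat.Coprime.pow_left 3 ((Nat.prime_two.coprime_iff_not_dvd).2 h2)).symm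
        · exact ((Fact.out : Nat.Prime 5).coprime_iff_not_dvd.2 h5').symm
        · exact ((Fact.out : Nat.Prime 7).coprime_iff_not_dvd.2 h7').symm
      exact h8'.dvd_of_dvd_mul_right (by norm_num; exact ho)
    classical
    haveI := Fintype.ofFinite G
    have hbound : Nat.card G ≤ 1 + Nat.card {w : G // orderOf w = 2} + Nat.card {w : G // w ≠ 1 ∧ orderOf w ∣ 7 ^ 1} +
        Nat.card {w : G // w ≠ 1 ∧ orderOf w ∣ 5 ^ 1} + Nat.card {w : G // w ≠ 1 ∧ orderOf w ∣ 3 ^ 2} := by
      simp only [Nat.card_eq_fintype_card, Fintype.card_subtype]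
      rw [← Finset.card_univ]
      refine le_trans (Finset.card_le_card (t := ({1} : Finset G) ∪ Finset.univ.filter (fun w => orderOf w = 2) ∪
        Finset.univ.filter (fun w => w ≠ 1 ∧ orderOf w ∣ 7 ^ 1) ∪
        Finset.univ.filter (fun w => w ≠ 1 ∧ orderOf w ∣ 5 ^ 1) ∪
        Finset.univ.filter (fun w => w ≠ 1 ∧ orderOf w ∣ 3 ^ 2)) fun w _ => ?_) ?_
      · simp only [Finset.mem_union, Finset.mem_singleton, Finset.mem_filter, Finset.mem_univ, true_and]
        have := hall w
        tauto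
      · refine (Finset.card_union_le _ _).trans (Nat.add_le_add_right ((Finset.card_union_le _ _).trans
          (Nat.add_le_add_right ((Finset.card_union_le _ _).trans (Nat.add_le_add_right ((Finset.card_union_le _ _).trans
            (le_of_eq ?_)) _)) _)) _)
        simp
    obtain ⟨P7⟩ : Nonempty (Sylow 7 G) := inferInstance
    obtain ⟨P5⟩ : Nonempty (Sylow 5 G) := inferInstance
    obtain ⟨P3⟩ : Nonempty (Sylow 3 G) := inferInstance
    have e7 := card_pElements_le (G := G) (p := 7) (k := 1) fun P =>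
      SmallOrd.sylow_card (m := 360) (by rw [hB.1]; norm_num) (by norm_num) P
    have e5 := card_pElements_le (G := G) (p := 5) (k := 1) fun P =>
      SmallOrd.sylow_card (m := 504) (by rw [hB.1]; norm_num) (by norm_num) P
    have e3 := card_pElements_le (G := G) (p := 3) (k := 2) fun P =>
      SmallOrd.sylow_card (m := 280) (by rw [hB.1]; norm_num) (by norm_num) P
    obtain ⟨-, -, -, n7, hn7, -, -, -, -, hmem7⟩ :=
      hB.sylow (p := 7) (k := 1) (m := 360) (by norm_num) (by norm_num) one_pos (by norm_num) P7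
    rw [show (Nat.divisors 360).filter (fun d => d % 7 = 1) = {1, 8, 15, 36, 120} by decide +kernel] at hmem7
    simp only [Finset.mem_insert, Finset.mem_singleton] at hmem7
    obtain ⟨-, h3n, -⟩ := hB.three P3
    obtain ⟨-, h5n⟩ := hB.five P5
    have hI' : Nat.card {w : G // orderOf w = 2} = 315 := hI
    rw [hB.1, hI'] at hbound
    rw [← hn7] at e7
    rw [h3n] at e3
    rw [show (7 : ℕ) ^ 1 - 1 = 6 by norm_num] at e7
    rw [show (5 : ℕ) ^ 1 - 1 = 4 by norm_num] at e5
    rw [show (3 : ℕ) ^ 2 - 1 = 8 by norm_num] at e3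
    omega
  · rcases hN' with e | e <;> rw [e] at hnN
    · rw [show Nat.card (Inv G) = 105 by omega, show n = 45 by omega] at hinc
      omega
    · rw [show Nat.card (Inv G) = 105 by omega, show n = 15 by omega] at hinc
      omega
  · -- centralisers of order seventy-two
    set C := Subgroup.centralizer ({t0.1} : Set G) with hCdef
    obtain ⟨T0⟩ : Nonempty (Sylow 3 C) := inferInstance
    obtain ⟨T, hT⟩ := (T0.2.map C.subtype).exists_le_sylow
    obtain ⟨hTc, -, hTN⟩ := hB.three T
    have hT0c : Nat.card (T0 : Subgroup C) = 9 := by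
      rw [SmallOrd.sylow_card (k := 2) (m := 8) (by rw [hm]; norm_num) (by norm_num) T0]; norm_num
    have hTeq : (T0 : Subgroup C).map C.subtype = (T : Subgroup G) := Subgroup.eq_of_le_of_card_ge hT (by
      rw [Subgroup.card_map_of_injective C.subtype_injective, hT0c, hTc])
    set N0 := Subgroup.normalizer ((T0 : Subgroup C) : Set C)
    have hmap : N0.map C.subtype ≤ Subgroup.normalizer ((T : Subgroup G) : Set G) := by
      rw [← hTeq]
      exact Subgroup.le_normalizer_map _
    have hcardN0 : Nat.card N0 ∣ 36 := by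
      have := Subgroup.card_dvd_of_le hmap
      rwa [Subgroup.card_map_of_injective C.subtype_injective, hTN] at this
    have hN0i : N0.index = 4 ∧ Nat.card N0 = 18 := by
      have h1 := N0.card_mul_index
      rw [hm] at h1
      have h2 := card_sylow_modEq_one 3 C
      rw [T0.card_eq_index_normalizer] at h2
      have h3 : 9 ∣ Nat.card N0 := hT0c ▸ Subgroup.card_dvd_of_le Subgroup.le_normalizer
      obtain ⟨d, hd⟩ := h3
      have h4 : d ≤ 4 := by have := Nat.le_of_dvd (by norm_num) hcardN0; omega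
      have h5 : N0.index ≠ 0 := Subgroup.index_ne_zero_of_finite
      unfold Nat.ModEq at h2
      change (_ : ℕ) % 3 = 1 % 3 at h2
      change N0.index % 3 = 1 at h2
      rw [hd] at h1 hcardN0
      interval_cases d <;> omega
    haveI : IsMulCommutative (T : Subgroup G) := IsPGroup.isMulCommutative_of_card_eq_prime_sq (p := 3) hTc
    set D := Subgroup.centralizer ((T : Subgroup G) : Set G)
    have hDN : D ≤ Subgroup.normalizer ((T : Subgroup G) : Set G) := Subgroup.centralizer_le_normalizer _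
    have hTD : (T : Subgroup G) ≤ D := (T : Subgroup G).le_centralizer
    have htD : t0.1 ∈ D := Subgroup.mem_centralizer_iff.2 fun x hx => by
      rw [← hTeq] at hx
      obtain ⟨y, -, rfl⟩ := hx
      exact mem_cz.1 y.2
    have hD18 : Nat.card D = 18 := by
      have h1 := hTN ▸ Subgroup.card_dvd_of_le hDN
      have h2 := hTc ▸ Subgroup.card_dvd_of_le hTD
      have h3 := t0.2 ▸ Subgroup.orderOf_dvd_natCard D htD
      have h4 : Nat.card D ≠ 36 := fun e => by
        obtain ⟨-, hT0, hTt, -⟩ := hB.sylow (p := 3) (k := 2) (m := 280) (by norm_num) (by norm_num) two_pos (by norm_num) T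
        exact SmallOrd.not_normalizer_le_centralizer T hT0 hTt
          (Subgroup.eq_of_le_of_card_ge hDN (by rw [hTN, e])).ge
      obtain ⟨d, hd⟩ := (show Nat.Coprime 2 9 by norm_num).mul_dvd_of_dvd_of_dvd h3 h2
      have h5 : 0 < Nat.card D := Nat.card_pos
      have h6 := Nat.le_of_dvd (by norm_num) h1
      omega
    have hDC : D.subgroupOf C = N0 := by
      have hle : D.subgroupOf C ≤ N0 := by
        refine le_trans ?_ (Subgroup.centralizer_le_normalizer _)
        intro x hx
        rw [Subgroup.mem_centralizer_iff]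
        intro y hy
        exact Subtype.ext (Subgroup.mem_centralizer_iff.1 hx (y : G) (hTeq ▸ ⟨y, hy, rfl⟩))
      refine Subgroup.eq_of_le_of_card_ge hle ?_
      have hDC' : D ≤ C := by
        -- the centraliser of `T` has a central involution only
        have hcl : (T : Subgroup G) ≤ D ⊓ C := le_inf hTD (hTeq ▸ Subgroup.map_subtype_le _)
        have h1 := hTc ▸ Subgroup.card_dvd_of_le hcl
        have h2 := t0.2 ▸ Subgroup.orderOf_dvd_natCard (D ⊓ C) ⟨htD, mem_cz.2 (Commute.refl _)⟩
        have h3 : D ⊓ C = D := Subgroup.eq_of_le_of_card_ge inf_le_left (by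
          rw [hD18]
          exact Nat.le_of_dvd Nat.card_pos ((show Nat.Coprime 2 9 by norm_num).mul_dvd_of_dvd_of_dvd h2 h1))
        exact h3.ge.trans inf_le_right
      rw [hN0i.2, Nat.card_congr (Subgroup.subgroupOfEquivOfLe hDC').toEquiv, hD18]
    have hNC : N0 ≤ Subgroup.centralizer ((T0 : Subgroup C) : Set C) := by
      intro x hx
      rw [← hDC] at hx
      rw [Subgroup.mem_centralizer_iff]
      intro y hy
      exact Subtype.ext (Subgroup.mem_centralizer_iff.1 hx (y : G) (hTeq ▸ ⟨y, hy, rfl⟩))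
    have hcomp := MonoidHom.ker_transferSylow_isComplement' T0 hNC
    set K := (MonoidHom.transferSylow T0 hNC).ker
    have hK8 : Nat.card (K.map C.subtype) = 8 := by
      rw [Subgroup.card_map_of_injective C.subtype_injective]
      have := hcomp.card_mul
      rw [hT0c, hm] at this
      omega
    obtain ⟨S', hS'⟩ := (IsPGroup.of_card (p := 2) (n := 3)
      (show Nat.card (K.map C.subtype) = 2 ^ 3 by rw [hK8]; norm_num)).exists_le_sylow
    have hK : K.map C.subtype = (S' : Subgroup G) :=
      Subgroup.eq_of_le_of_card_ge hS' (by rw [(hB.sylow_two S').1, hK8])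
    have hCN : C ≤ Subgroup.normalizer ((S' : Subgroup G) : Set G) := by
      rw [← hK]
      refine le_trans (le_of_eq ?_) (Subgroup.le_normalizer_map C.subtype)
      rw [Subgroup.normalizer_eq_top_iff.2 inferInstance, ← MonoidHom.range_eq_map, Subgroup.range_subtype]
    obtain ⟨-, n', hn', -, -, hn'N⟩ := hB.sylow_two S'
    rw [← hn'] at hn
    subst hn
    have h72 := hm ▸ Subgroup.card_dvd_of_le hCN
    have heq : Nat.card (Subgroup.normalizer ((S' : Subgroup G) : Set G)) = Nat.card N :=
      Nat.eq_of_mul_eq_mul_left (show 0 < n by omega) (hn'N.trans hnN.symm)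
    rw [heq] at h72
    rcases hN' with e | e <;> rw [e] at h72 <;> norm_num at h72

/-- The involutions are conjugate and their centralisers have a unique subgroup of order three. -/
theorem Big.inv_data (hB : Big G) : MulAction.IsPretransitive G (Inv G) ∧ ∀ t : Inv G,
    Nat.card (Subgroup.centralizer ({t.1} : Set G)) = 24 ∧ ∃ K : Subgroup G, Nat.card K = 3 ∧
      K ≤ Subgroup.centralizer ({t.1} : Set G) ∧ Subgroup.centralizer ({t.1} : Set G) ≤ Subgroup.normalizer (K : Set G) ∧
      ∀ x : G, orderOf x = 3 → Commute x t.1 → x ∈ K := by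
  haveI : Fact (Nat.Prime 2) := ⟨by norm_num⟩
  haveI : Fact (Nat.Prime 3) := ⟨by norm_num⟩
  haveI : Fact (Nat.Prime 7) := ⟨by norm_num⟩
  have hG := hB.not_comm
  obtain ⟨S⟩ : Nonempty (Sylow 2 G) := inferInstance
  obtain ⟨hS8, -⟩ := hB.sylow_two S
  -- an element of order four
  obtain ⟨a, haS, haa⟩ : ∃ a ∈ (S : Subgroup G), a * a ≠ 1 := by
    have := hB.not_elementary S
    push Not at this
    exact this
  have ha8 : orderOf a ∣ 8 := hS8 ▸ Subgroup.orderOf_dvd_natCard _ haS
  have ha : orderOf a = 4 := by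
    have h1 : orderOf a ≠ 8 := fun e => by
      have hcyc : IsCyclic (S : Subgroup G) := isCyclic_of_orderOf_eq_card (⟨a, haS⟩ : (S : Subgroup G))
        (by rw [Subgroup.orderOf_mk, e, hS8])
      obtain ⟨H, hH⟩ := Cfsg.Agent.S0219.result (by rw [hB.1]; decide) S hcyc
      have := hB.2 H (fun h => by rw [h, Subgroup.index_top] at hH; omega)
      omega
    have h2 : orderOf a ≠ 1 := fun e => haa (by rw [orderOf_eq_one_iff.1 e, mul_one])
    have h3 : orderOf a ≠ 2 := fun e => haa (by rw [← pow_two, ← e, pow_orderOf_eq_one])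
    have h4 := Nat.le_of_dvd (by norm_num) ha8
    obtain ⟨k, hk⟩ := ha8
    interval_cases orderOf a <;> omega
  set u := a * a with hu
  have hu2 : orderOf u = 2 := by
    refine orderOf_eq_prime ?_ haa
    rw [hu, ← pow_two, ← pow_mul, show 2 * 2 = 4 from rfl, ← ha, pow_orderOf_eq_one]
  have huS : u ∈ (S : Subgroup G) := mul_mem haS haS
  set A := Subgroup.zpowers a with hA
  have hAS : A ≤ (S : Subgroup G) := Subgroup.zpowers_le.2 haS
  have hidx : (A.subgroupOf (S : Subgroup G)).index = 2 := by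
    have h1 := Subgroup.card_mul_index (A.subgroupOf (S : Subgroup G))
    rw [Nat.card_congr (Subgroup.subgroupOfEquivOfLe hAS).toEquiv, Nat.card_zpowers, ha, hS8] at h1
    omega
  have hAn : ∀ s ∈ (S : Subgroup G), s * a * s⁻¹ ∈ A := fun s hs => by
    haveI := Subgroup.normal_of_index_eq_two hidx
    have := Subgroup.Normal.conj_mem inferInstance (⟨a, haS⟩ : (S : Subgroup G))
      (Subgroup.mem_subgroupOf.2 (Subgroup.mem_zpowers a)) ⟨s, hs⟩
    exact Subgroup.mem_subgroupOf.1 this
  have hsqA : ∀ s ∈ (S : Subgroup G), s * s ∈ A := fun s hs => by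
    have := Subgroup.mul_self_mem_of_index_two hidx (⟨s, hs⟩ : (S : Subgroup G))
    exact Subgroup.mem_subgroupOf.1 this
  have hAinv : ∀ x ∈ A, x * x = 1 → x = 1 ∨ x = u := by
    rintro _ ⟨i, rfl⟩ hx
    change a ^ i * a ^ i = 1 at hx
    change a ^ i = 1 ∨ a ^ i = u
    rw [← zpow_add] at hx
    have h4 : (4 : ℤ) ∣ i + i := by
      have := orderOf_dvd_iff_zpow_eq_one.2 hx
      rwa [ha] at this
    rw [← zpow_mod_orderOf, ha]
    rcases (show i % ((4 : ℕ) : ℤ) = 0 ∨ i % ((4 : ℕ) : ℤ) = 2 by omega) with e | e <;> rw [e]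
    · exact Or.inl (zpow_zero a)
    · exact Or.inr (by rw [hu, zpow_two])
  obtain ⟨g0, hg0, hg0u⟩ := hB.exists_conj S hu2 huS
  set y := g0 * u * g0⁻¹ with hy
  have hy2 : orderOf y = 2 := by rw [hy, ← MulAut.conj_apply, MulEquiv.orderOf_eq, hu2]
  have hyy : y * y = 1 := by rw [← pow_two, ← hy2, pow_orderOf_eq_one]
  have hyA : y ∉ A := fun h => by
    rcases hAinv y h hyy with e | e
    · rw [e, orderOf_one] at hy2; omega
    · exact hg0u e
  have hgen : ∀ s ∈ (S : Subgroup G), s ∈ A ∨ y * s ∈ A := fun s hs => by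
    by_cases h : s ∈ A
    · exact Or.inl h
    · refine Or.inr ?_
      have := (Subgroup.mul_mem_iff_of_index_two hidx (a := (⟨y, hg0⟩ : (S : Subgroup G))) (b := ⟨s, hs⟩)).2
        (by simp only [Subgroup.mem_subgroupOf]; tauto)
      exact Subgroup.mem_subgroupOf.1 this
  have hinv : y * a * y⁻¹ = a⁻¹ := by
    obtain ⟨i, hi⟩ := hAn y hg0
    change a ^ i = _ at hi
    rw [← zpow_mod_orderOf, ha] at hi
    have ho : orderOf (y * a * y⁻¹) = 4 := by rw [← MulAut.conj_apply, MulEquiv.orderOf_eq, ha]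
    rcases (show i % ((4 : ℕ) : ℤ) = 0 ∨ i % ((4 : ℕ) : ℤ) = 1 ∨ i % ((4 : ℕ) : ℤ) = 2 ∨ i % ((4 : ℕ) : ℤ) = 3 by omega)
      with e | e | e | e <;> rw [e] at hi
    · rw [← hi, zpow_zero, orderOf_one] at ho; omega
    · -- the commutative case
      exfalso
      rw [zpow_one] at hi
      have hya : Commute y a := mul_inv_eq_iff_eq_mul.1 hi.symm
      have hcS : ∀ s ∈ (S : Subgroup G), ∃ j : ℤ, ∃ e : ℤ, s = y ^ e * a ^ j := fun s hs => by
        rcases hgen s hs with ⟨j, hj⟩ | ⟨j, hj⟩
        · exact ⟨j, 0, by rw [zpow_zero, one_mul]; exact hj.symm⟩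
        · refine ⟨j, 1, ?_⟩
          change a ^ j = y * s at hj
          rw [zpow_one, hj, ← mul_assoc, hyy, one_mul]
      haveI : IsMulCommutative (S : Subgroup G) := ⟨⟨fun p q => Subtype.ext (by
        obtain ⟨j, e, he⟩ := hcS p p.2
        obtain ⟨j', e', he'⟩ := hcS q q.2
        show (p : G) * q = q * p
        rw [he, he']
        exact (((Commute.refl y).zpow_zpow e e').mul_right (hya.zpow_zpow e j')).mul_left
          ((hya.symm.zpow_zpow j e').mul_right ((Commute.refl a).zpow_zpow j j')))⟩⟩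
      obtain ⟨k, hk, hke⟩ := Sylow.conj_eq_normalizer_conj_of_mem S u g0⁻¹ huS (by rw [inv_inv]; exact hg0)
      rw [inv_inv] at hke
      apply hyA
      rw [hy, hke, hu, show k⁻¹ * (a * a) * k = (k⁻¹ * a * k) * (k⁻¹ * a * k) by group]
      exact hsqA _ ((Subgroup.mem_normalizer_iff''.1 hk a).1 haS)
    · rw [← hi, show (2 : ℤ) = ((2 : ℕ) : ℤ) from rfl, zpow_natCast, orderOf_pow, ha] at ho
      norm_num at ho
    · rw [← hi]
      refine eq_inv_of_mul_eq_one_left ?_
      rw [show a ^ (3 : ℤ) * a = a ^ (4 : ℕ) by group, ← ha, pow_orderOf_eq_one]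
  obtain ⟨e⟩ : Nonempty ((S : Subgroup G) ≃* DihedralGroup 4) := by
    refine CfsgLib.QDWr.nonempty_mulEquiv_dihedral (a := (⟨a, haS⟩ : (S : Subgroup G))) (y := ⟨y, hg0⟩)
      (by rw [Subgroup.orderOf_mk, ha]) (Subtype.ext hinv) (Subtype.ext (by rw [Subgroup.coe_pow, pow_two]; exact hyy))
      (fun h => hyA (by
        obtain ⟨i, hi⟩ := h
        exact ⟨i, congrArg Subtype.val hi⟩)) ?_
    rw [eq_top_iff]
    intro s _
    rcases hgen s s.2 with ⟨j, hj⟩ | ⟨j, hj⟩ <;> change a ^ j = _ at hj
    · exact Subgroup.mem_sup_left ⟨j, Subtype.ext hj⟩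
    · have : s = ⟨y, hg0⟩ * (⟨a, haS⟩ : (S : Subgroup G)) ^ j := Subtype.ext (by
        show (s : G) = y * a ^ j
        rw [hj, ← mul_assoc, hyy, one_mul])
      rw [this]
      exact mul_mem (Subgroup.mem_sup_right (Subgroup.mem_zpowers _))
        (zpow_mem (Subgroup.mem_sup_left (Subgroup.mem_zpowers _)) j)
  have hres : Cfsg.pResidual 2 G = ⊤ := by
    have hn : (Cfsg.pResidual 2 G).Normal := by
      refine ⟨fun x hx g => ?_⟩
      have h1 := Subgroup.mem_map_of_mem (MulAut.conj g).toMonoidHom hx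
      rw [Cfsg.pResidual, MonoidHom.map_closure] at h1
      refine Subgroup.closure_mono ?_ (show g * x * g⁻¹ ∈ Subgroup.closure _ from h1)
      rintro _ ⟨z, hz, rfl⟩
      show Nat.Coprime (orderOf ((MulAut.conj g) z)) 2
      rw [MulEquiv.orderOf_eq]; exact hz
    refine hn.eq_bot_or_eq_top.resolve_left fun h => ?_
    obtain ⟨g, hg⟩ := exists_prime_orderOf_dvd_card' (G := G) 7 (by rw [hB.1]; norm_num)
    have hm : g ∈ Cfsg.pResidual 2 G := Subgroup.subset_closure (by show Nat.Coprime (orderOf g) 2; rw [hg]; norm_num)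
    rw [h, Subgroup.mem_bot] at hm
    rw [hm, orderOf_one] at hg
    omega
  haveI htrans : MulAction.IsPretransitive G (Inv G) := ⟨fun p q => by
    obtain ⟨g, hg⟩ := Cfsg.Agent.S0107.result S 2 le_rfl ⟨e⟩ hres p.1 q.1 p.2 q.2
    exact ⟨g, Subtype.ext hg⟩⟩
  refine ⟨htrans, ?_⟩
  let t0 : Inv G := ⟨u, hu2⟩
  have hSu : (S : Subgroup G) ≤ Subgroup.centralizer ({u} : Set G) := fun s hs => mem_cz.2 (by
    obtain ⟨i, hi⟩ := hAn s hs
    change a ^ i = _ at hi
    have h1 : (a ^ i) * (a ^ i) = 1 ∨ (a ^ i) * (a ^ i) = u := hAinv _ (mul_mem (zpow_mem (Subgroup.mem_zpowers a) i)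
      (zpow_mem (Subgroup.mem_zpowers a) i)) (by
        rw [hi]
        calc s * a * s⁻¹ * (s * a * s⁻¹) * (s * a * s⁻¹ * (s * a * s⁻¹)) = s * (a ^ 4) * s⁻¹ := by
              rw [pow_succ, pow_succ, pow_succ, pow_one]; group
          _ = 1 := by rw [← ha, pow_orderOf_eq_one]; group)
    rw [hi, show s * a * s⁻¹ * (s * a * s⁻¹) = s * u * s⁻¹ by rw [hu]; group] at h1
    rcases h1 with h1 | h1
    · exact absurd (by rwa [mul_inv_eq_one, mul_eq_left] at h1) haa
    · exact mul_inv_eq_iff_eq_mul.1 h1)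
  have hconst : ∀ t : Inv G, Nat.card (Subgroup.centralizer ({t.1} : Set G)) =
      Nat.card (Subgroup.centralizer ({u} : Set G)) := fun t => by
    have h1 := card_inv (t := t)
    rw [← card_inv (t := t0)] at h1
    exact Nat.eq_of_mul_eq_mul_left (Nat.card_pos_iff.2 ⟨⟨t⟩, inferInstance⟩) h1
  have h8 : ∀ t : Inv G, 8 ∣ Nat.card (Subgroup.centralizer ({t.1} : Set G)) := fun t => by
    rw [hconst]; exact hS8 ▸ Subgroup.card_dvd_of_le hSu
  have hmany : ∀ t : Inv G, 5 ≤ Nat.card {s : Inv G // Commute s.1 t.1} := by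
    have h0 : 5 ≤ Nat.card {s : Inv G // Commute s.1 t0.1} := by
      have hyi : ∀ i : Fin 4, y * a ^ (i : ℕ) * (y * a ^ (i : ℕ)) = 1 ∧ y * a ^ (i : ℕ) ≠ 1 := fun i => by
        constructor
        · have h1 : y * a ^ (i : ℕ) * y⁻¹ = (a ^ (i : ℕ))⁻¹ := by rw [← conj_pow, hinv, inv_pow]
          calc y * a ^ (i : ℕ) * (y * a ^ (i : ℕ)) = (y * a ^ (i : ℕ) * y⁻¹) * (y * y) * a ^ (i : ℕ) := by group
            _ = 1 := by rw [h1, hyy]; group
        · intro h
          exact hyA (by rw [eq_inv_of_mul_eq_one_left h]; exact inv_mem (pow_mem (Subgroup.mem_zpowers a) _))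
      let F : Option (Fin 4) → {s : Inv G // Commute s.1 t0.1} := fun o => match o with
        | none => ⟨t0, Commute.refl _⟩
        | some i => ⟨⟨y * a ^ (i : ℕ), orderOf_eq_prime (by rw [pow_two]; exact (hyi i).1) (hyi i).2⟩,
            mem_cz.1 (hSu (mul_mem hg0 (pow_mem haS _)))⟩
      have hF : Function.Injective F := by
        rintro (_ | i) (_ | j) h
        · rfl
        · exfalso
          have h' : u = y * a ^ (j : ℕ) := congrArg (fun z : {s : Inv G // Commute s.1 t0.1} => z.1.1) h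
          exact hyA (by
            rw [eq_mul_inv_of_mul_eq h'.symm]
            exact mul_mem (mul_mem (Subgroup.mem_zpowers a) (Subgroup.mem_zpowers a)) (inv_mem (pow_mem (Subgroup.mem_zpowers a) _)))
        · exfalso
          have h' : y * a ^ (i : ℕ) = u := congrArg (fun z : {s : Inv G // Commute s.1 t0.1} => z.1.1) h
          exact hyA (by
            rw [eq_mul_inv_of_mul_eq h']
            exact mul_mem (mul_mem (Subgroup.mem_zpowers a) (Subgroup.mem_zpowers a)) (inv_mem (pow_mem (Subgroup.mem_zpowers a) _)))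
        · have h' : y * a ^ (i : ℕ) = y * a ^ (j : ℕ) :=
            congrArg (fun z : {s : Inv G // Commute s.1 t0.1} => z.1.1) h
          exact congrArg some (Fin.ext (pow_injOn_Iio_orderOf (by rw [Set.mem_Iio, ha]; exact i.2)
            (by rw [Set.mem_Iio, ha]; exact j.2) (mul_left_cancel h')))
      simpa using Nat.card_le_card_of_injective F hF
    intro t
    obtain ⟨x, rfl⟩ := MulAction.exists_smul_eq G t0 t
    refine h0.trans (le_of_eq (Nat.card_congr ((MulAction.toPerm x).subtypeEquiv fun s => ?_)))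
    show Commute s.1 t0.1 ↔ Commute (x • s).1 (x • t0).1
    rw [inv_smul_def, inv_smul_def]
    exact ⟨commute_conj x, fun h => by simpa [mul_assoc] using commute_conj x⁻¹ h⟩
  have hno5 := hB.not_five h8 hmany
  intro t
  obtain ⟨m, hm⟩ := h8 t
  have hm5 := hno5 t
  have hm7 := hB.not_seven_dvd t.2
  have hmle := hB.card_cent_le (t := t.1) (fun e => by simpa [e] using t.2)
  have hmd : 8 * m ∣ 2520 := hB.1 ▸ hm ▸ Subgroup.card_subgroup_dvd_card _
  rw [hm] at hm5 hm7 hmle
  have hmd' : m ∈ (Nat.divisors 315) := by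
    rw [Nat.mem_divisors]
    exact ⟨Nat.dvd_of_mul_dvd_mul_left (show 0 < 8 by norm_num) (hmd.trans (by norm_num)), by norm_num⟩
  rw [show Nat.divisors 315 = {1, 3, 5, 7, 9, 15, 21, 35, 45, 63, 105, 315} by decide +kernel] at hmd'
  simp only [Finset.mem_insert, Finset.mem_singleton] at hmd'
  obtain ⟨N, hN, hNodd, k, hk⟩ := Cfsg.Agent.S0514.result S 4 (by norm_num) ⟨e⟩ t.1 t.2
  have hNc : Nat.card N = m := by
    have h1 := N.card_mul_index
    rw [hk, hm] at h1
    have hm0 : 0 < m := by omega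
    have hmo : ¬ 2 ∣ m := by rcases hmd' with h|h|h|h|h|h|h|h|h|h|h|h <;> omega
    have h2 : Nat.card N ∣ m := by
      refine (Nat.Coprime.pow_right 3 (Nat.coprime_two_right.2 hNodd)).dvd_of_dvd_mul_left ?_
      exact ⟨2 ^ k, by rw [h1]⟩
    have h3 : m ∣ Nat.card N := by
      refine (Nat.Coprime.pow_right k ((Nat.prime_two.coprime_iff_not_dvd.2 hmo).symm)).dvd_of_dvd_mul_right ?_
      rw [h1]; exact dvd_mul_left m 8
    exact Nat.dvd_antisymm h2 h3
  let K := N.map (Subgroup.centralizer ({t.1} : Set G)).subtype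
  have hKc : Nat.card K = m := by rw [Subgroup.card_map_of_injective (Subgroup.subtype_injective _), hNc]
  have hKle : K ≤ Subgroup.centralizer ({t.1} : Set G) := Subgroup.map_subtype_le _
  have hKn : Subgroup.centralizer ({t.1} : Set G) ≤ Subgroup.normalizer (K : Set G) := by
    refine le_trans (le_of_eq ?_) (Subgroup.le_normalizer_map _)
    rw [Subgroup.normalizer_eq_top_iff.2 hN, ← MonoidHom.range_eq_map, Subgroup.range_subtype]
  have hm13 : m = 1 ∨ m = 3 ∨ m = 9 := by omega
  rcases hm13 with rfl | rfl | rfl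
  · exfalso
    have hC : Subgroup.centralizer ({u} : Set G) = (S : Subgroup G) :=
      (Subgroup.eq_of_le_of_card_ge hSu (by rw [← hconst t, hm, hS8])).symm
    have hperf : commutator G = ⊤ := by
      refine (inferInstance : (commutator G).Normal).eq_bot_or_eq_top.resolve_left fun h => hG ?_
      exact ⟨⟨fun p q => commutatorElement_eq_one_iff_mul_comm.1 (Subgroup.mem_bot.1 (h ▸
        Subgroup.commutator_mem_commutator (Subgroup.mem_top p) (Subgroup.mem_top q)))⟩⟩
    rcases Cfsg.Agent.S0848.result hperf u hu2 ((MulEquiv.subgroupCongr hC).trans e) with h | h <;>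
      rw [hB.1] at h <;> norm_num at h
  · refine ⟨hm, K, hKc, hKle, hKn, fun x hx hxt => ?_⟩
    have hxC := mem_cz.2 hxt
    have h1 : orderOf (QuotientGroup.mk' N (⟨x, hxC⟩ : Subgroup.centralizer ({t.1} : Set G))) ∣ 3 := by
      rw [← hx, ← Subgroup.orderOf_mk x hxC]; exact orderOf_map_dvd _ _
    have h2 : orderOf (QuotientGroup.mk' N (⟨x, hxC⟩ : Subgroup.centralizer ({t.1} : Set G))) ∣ 2 ^ k :=
      hk ▸ N.index_eq_card ▸ orderOf_dvd_natCard _
    have h3 := Nat.eq_one_of_dvd_coprimes (Nat.Coprime.pow_right k (show Nat.Coprime 3 2 by norm_num)) h1 h2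
    exact ⟨⟨x, hxC⟩, (QuotientGroup.eq_one_iff _).1 (orderOf_eq_one_iff.1 h3), rfl⟩
  · exfalso
    obtain ⟨T, hT⟩ := (IsPGroup.of_card (p := 3) (n := 2)
      (show Nat.card K = 3 ^ 2 by rw [hKc]; norm_num)).exists_le_sylow
    have hKT : K = (T : Subgroup G) := Subgroup.eq_of_le_of_card_ge hT (by rw [(hB.three T).1, hKc])
    rw [hKT] at hKn
    have := Subgroup.card_le_of_le hKn
    rw [hm, (hB.three T).2.2] at this
    omega

end CfsgLib.AltSevenRecog
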