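import Mathlib
import Cfsg.Agent.AltSevenRecog.Even
import Cfsg.Agent.AltSevenRecog.Gens

/-!
Generators of a simple group of order 2520 satisfying the relations of Moore.
-/

set_option autoImplicit false
set_option linter.style.haveILetI false

namespace CfsgLib.AltSevenRecog

universe u

variable {G : Type u} [Group G] [Finite G]

/-- A subgroup of order three centralised by an involution. -/
def IsGood (K : Subgroup G) : Prop := Nat.card K = 3 ∧ ∃ t : Inv G, K ≤ Subgroup.centralizer ({t.1} : Set G)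

/-- The good subgroups. -/
abbrev Good (G : Type u) [Group G] [Finite G] : Type u := {K : Subgroup G // IsGood K}

theorem inv_mul_self_eq (t : Inv G) : t.1 * t.1 = 1 := by
  have h := pow_orderOf_eq_one t.1
  rwa [t.2, pow_two] at h

theorem map_conj_le_centralizer {K : Subgroup G} {t : Inv G} (g : G)
    (h : K ≤ Subgroup.centralizer ({t.1} : Set G)) :
    K.map (MulAut.conj g).toMonoidHom ≤ Subgroup.centralizer ({(g • t).1} : Set G) := by
  rintro _ ⟨k, hk, rfl⟩
  exact mem_cz.2 (commute_conj g (mem_cz.1 (h hk)))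

instance : MulAction G (Good G) where
  smul g K := ⟨K.1.map (MulAut.conj g).toMonoidHom,
    by rw [Subgroup.card_map_of_injective (MulAut.conj g).injective]; exact K.2.1,
    g • K.2.2.choose, map_conj_le_centralizer g K.2.2.choose_spec⟩
  one_smul K := Subtype.ext (by
    ext x
    show x ∈ K.1.map (MulAut.conj (1 : G)).toMonoidHom ↔ x ∈ K.1
    simp)
  mul_smul g h K := Subtype.ext (by
    show K.1.map (MulAut.conj (g * h)).toMonoidHom =
      (K.1.map (MulAut.conj h).toMonoidHom).map (MulAut.conj g).toMonoidHom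
    rw [Subgroup.map_map]
    congr 1
    ext x
    simp)

theorem good_smul_coe (g : G) (K : Good G) : (g • K : Good G).1 = K.1.map (MulAut.conj g).toMonoidHom := rfl

theorem mem_smul_good {g : G} {K : Good G} {x : G} (hx : x ∈ K.1) : g * x * g⁻¹ ∈ (g • K : Good G).1 :=
  ⟨x, hx, rfl⟩

theorem stabilizer_good (K : Good G) : MulAction.stabilizer G K = Subgroup.normalizer (K.1 : Set G) := by
  ext g
  rw [MulAction.mem_stabilizer_iff, Subtype.ext_iff, good_smul_coe, Subgroup.mem_normalizer_iff]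
  constructor
  · intro h x
    constructor
    · intro hx; rw [← h]; exact ⟨x, hx, rfl⟩
    · intro hx
      rw [← h] at hx
      obtain ⟨y, hy, e⟩ := hx
      rwa [← (MulAut.conj g).injective e]
  · intro h
    ext x
    refine ⟨fun ⟨y, hy, e⟩ => e ▸ (h y).1 hy, fun hx => ⟨g⁻¹ * x * g, (h _).2 (by simpa [mul_assoc] using hx), ?_⟩⟩
    show g * (g⁻¹ * x * g) * g⁻¹ = x
    group

theorem good_cases {K : Good G} {x y : G} (hx : x ∈ K.1) (hx1 : x ≠ 1) (hy : y ∈ K.1) :
    y = 1 ∨ y = x ∨ y = x⁻¹ := by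
  have ho : orderOf x = 3 := by
    have h := K.2.1 ▸ Subgroup.orderOf_dvd_natCard _ hx
    exact ((Nat.dvd_prime Nat.prime_three).1 h).resolve_left fun e => hx1 (orderOf_eq_one_iff.1 e)
  have hz : Subgroup.zpowers x = K.1 := Subgroup.eq_of_le_of_card_ge (Subgroup.zpowers_le.2 hx)
    (by rw [Nat.card_zpowers, ho, K.2.1])
  obtain ⟨i, hi⟩ : y ∈ Subgroup.zpowers x := hz ▸ hy
  change x ^ i = y at hi
  rw [← zpow_mod_orderOf, ho] at hi
  rcases (show i % ((3 : ℕ) : ℤ) = 0 ∨ i % ((3 : ℕ) : ℤ) = 1 ∨ i % ((3 : ℕ) : ℤ) = 2 by omega) with e | e | e <;>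
    rw [e] at hi
  · exact Or.inl (by rw [← hi, zpow_zero])
  · exact Or.inr (Or.inl (by rw [← hi, zpow_one]))
  · refine Or.inr (Or.inr ?_)
    rw [← hi]
    refine eq_inv_of_mul_eq_one_left ?_
    rw [show x ^ (2 : ℤ) * x = x ^ (3 : ℕ) by group, ← ho, pow_orderOf_eq_one]

variable [IsSimpleGroup G]

theorem Big.good_unique (hB : Big G) {K L : Good G} (t : Inv G) (hK : K.1 ≤ Subgroup.centralizer ({t.1} : Set G))
    (hL : L.1 ≤ Subgroup.centralizer ({t.1} : Set G)) : K = L := by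
  obtain ⟨-, K0, hK0, -, -, hu⟩ := hB.inv_data.2 t
  have h : ∀ M : Good G, M.1 ≤ Subgroup.centralizer ({t.1} : Set G) → M.1 = K0 := fun M hM =>
    Subgroup.eq_of_le_of_card_ge (fun x hx => by
      rcases eq_or_ne x 1 with rfl | h1
      · exact one_mem _
      · refine hu x ?_ (mem_cz.1 (hM hx))
        exact ((Nat.dvd_prime Nat.prime_three).1 (M.2.1 ▸ Subgroup.orderOf_dvd_natCard _ hx)).resolve_left
          fun e => h1 (orderOf_eq_one_iff.1 e)) (by rw [hK0, M.2.1])
  exact Subtype.ext ((h K hK).trans (h L hL).symm)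

theorem Big.exists_good (hB : Big G) (t : Inv G) :
    ∃ K : Good G, K.1 ≤ Subgroup.centralizer ({t.1} : Set G) ∧
      Subgroup.centralizer ({t.1} : Set G) ≤ Subgroup.normalizer (K.1 : Set G) := by
  obtain ⟨-, K0, hK0, hle, hn, -⟩ := hB.inv_data.2 t
  exact ⟨⟨K0, hK0, t, hle⟩, hle, hn⟩

theorem Big.good_data (hB : Big G) [Fact (Nat.Prime 3)] : MulAction.IsPretransitive G (Good G) ∧
    (∀ T : Sylow 3 G, Nat.card {K : Good G // K.1 ≤ (T : Subgroup G)} = 2) ∧ ∀ K : Good G,
      Nat.card (Subgroup.normalizer (K.1 : Set G)) = 72 ∧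
      Nat.card {T : Sylow 3 G // K.1 ≤ (T : Subgroup G)} = 4 ∧
      Nat.card {t : Inv G // K.1 ≤ Subgroup.centralizer ({t.1} : Set G)} = 3 := by
  haveI := hB.inv_data.1
  haveI hpre : MulAction.IsPretransitive G (Good G) := ⟨fun K L => by
    obtain ⟨t, ht⟩ := K.2.2
    obtain ⟨s, hs⟩ := L.2.2
    obtain ⟨g, rfl⟩ := MulAction.exists_smul_eq G t s
    exact ⟨g, hB.good_unique (g • t) (map_conj_le_centralizer g ht) hs⟩⟩
  have hK : ∀ K : Good G, Nat.card (Good G) = 35 ∧ Nat.card (Subgroup.normalizer (K.1 : Set G)) = 72 ∧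
      Nat.card {T : Sylow 3 G // K.1 ≤ (T : Subgroup G)} = 4 ∧
      Nat.card {t : Inv G // K.1 ≤ Subgroup.centralizer ({t.1} : Set G)} = 3 := by
    intro K
    obtain ⟨t, ht⟩ := K.2.2
    have hI : Nat.card (Inv G) = 105 := by
      have := card_inv (t := t)
      rw [(hB.inv_data.2 t).1, hB.1] at this
      omega
    have hinc := incidence (G := G) (fun (t : Inv G) (K : Good G) => K.1 ≤ Subgroup.centralizer ({t.1} : Set G))
      (fun g _ _ h => map_conj_le_centralizer g h) t K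
    have h1 : Nat.card {L : Good G // L.1 ≤ Subgroup.centralizer ({t.1} : Set G)} = 1 :=
      Nat.card_eq_one_iff_unique.2 ⟨⟨fun a b => Subtype.ext (hB.good_unique t a.2 b.2)⟩, ⟨⟨K, ht⟩⟩⟩
    rw [h1, mul_one, hI] at hinc
    set N := Subgroup.normalizer (K.1 : Set G)
    have hidx : N.index = Nat.card (Good G) := by
      rw [← MulAction.index_stabilizer_of_transitive G K, stabilizer_good]
    have hNt : N ≠ ⊤ := fun h => by
      rcases (Subgroup.normalizer_eq_top_iff.1 h).eq_bot_or_eq_top with e | e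
      · have := K.2.1; rw [e, Subgroup.card_bot] at this; omega
      · have := K.2.1; rw [e, Subgroup.card_top, hB.1] at this; omega
    have h8 := hB.2 N hNt
    have hNN := N.card_mul_index
    rw [hB.1] at hNN
    obtain ⟨T, hT⟩ := (IsPGroup.of_card (p := 3) (n := 1)
      (show Nat.card K.1 = 3 ^ 1 by rw [K.2.1, pow_one])).exists_le_sylow
    obtain ⟨hTc, hT70, hTN⟩ := hB.three T
    haveI : IsMulCommutative (T : Subgroup G) := IsPGroup.isMulCommutative_of_card_eq_prime_sq (p := 3) hTc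
    have hTle : ∀ P : Sylow 3 G, K.1 ≤ (P : Subgroup G) → (P : Subgroup G) ≤ N := fun P hP => by
      obtain ⟨hPc, -, -⟩ := hB.three P
      haveI : IsMulCommutative (P : Subgroup G) := IsPGroup.isMulCommutative_of_card_eq_prime_sq (p := 3) hPc
      exact ((P : Subgroup G).le_centralizer.trans (Subgroup.centralizer_le hP)).trans
        (Subgroup.centralizer_le_normalizer _)
    have h9 := hTc ▸ Subgroup.card_dvd_of_le (hTle T hT)
    rw [hidx] at hNN h8
    set c := Nat.card (Good G)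
    have hc280 : c ∣ 280 := by
      obtain ⟨d, hd⟩ := h9
      exact ⟨d, by rw [hd] at hNN; rw [mul_comm c d]; rw [mul_assoc] at hNN; omega⟩
    have hc35 : c ∣ 35 :=
      (Nat.dvd_gcd hc280 ⟨_, hinc⟩).trans (show Nat.gcd 280 105 ∣ 35 by norm_num)
    have hc : c = 35 := by
      have hle := Nat.le_of_dvd (by norm_num) hc35
      obtain ⟨d, hd⟩ := hc35
      interval_cases c <;> omega
    rw [hc] at hinc hNN
    refine ⟨hc, by omega, ?_, by omega⟩
    -- the Sylow subgroups over `K`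
    have hN72 : Nat.card N = 72 := by omega
    let F : {P : Sylow 3 G // K.1 ≤ (P : Subgroup G)} → Sylow 3 N := fun P => P.1.subtype (hTle P.1 P.2)
    have hF : Function.Injective F := fun a b e => Subtype.ext (Sylow.subtype_injective e)
    have hFs : Function.Surjective F := by
      intro Q
      obtain ⟨n, rfl⟩ := MulAction.exists_smul_eq N (T.subtype (hTle T hT)) Q
      have hKn : K.1 ≤ (((n : G) • T : Sylow 3 G) : Subgroup G) := by
        intro k hk
        rw [Sylow.coe_subgroup_smul, Subgroup.mem_pointwise_smul_iff_inv_smul_mem, ← map_inv, MulAut.smul_def,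
          MulAut.conj_apply]
        exact hT ((Subgroup.mem_normalizer_iff.1 (inv_mem n.2) k).1 hk)
      exact ⟨⟨(n : G) • T, hKn⟩, (Sylow.smul_subtype (hTle T hT) n).symm⟩
    rw [Nat.card_congr (Equiv.ofBijective F ⟨hF, hFs⟩)]
    have hd : Nat.card (Sylow 3 N) ∣ 8 := by
      have h1 := (T.subtype (hTle T hT)).card_dvd_index
      have h2 := Subgroup.card_mul_index ((T.subtype (hTle T hT) : Sylow 3 N) : Subgroup N)
      rw [Sylow.coe_subtype, Nat.card_congr (Subgroup.subgroupOfEquivOfLe (hTle T hT)).toEquiv, hTc, hN72] at h2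
      rwa [Sylow.coe_subtype, show ((T : Subgroup G).subgroupOf N).index = 8 by omega] at h1
    have hmod := card_sylow_modEq_one 3 N
    have hne : Nat.card (Sylow 3 N) ≠ 1 := fun h => by
      haveI : Subsingleton (Sylow 3 N) := (Nat.card_eq_one_iff_unique.1 h).1
      haveI hn : ((T.subtype (hTle T hT) : Sylow 3 N) : Subgroup N).Normal := Sylow.normal_of_subsingleton _
      haveI : ((T : Subgroup G).subgroupOf N).Normal := by rwa [Sylow.coe_subtype] at hn
      have := Subgroup.card_le_of_le (Subgroup.le_normalizer_of_normal_subgroupOf (hTle T hT))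
      rw [hN72, hTN] at this
      omega
    have := Nat.le_of_dvd (by norm_num) hd
    unfold Nat.ModEq at hmod
    obtain ⟨d, hd⟩ := hd
    interval_cases Nat.card (Sylow 3 N) <;> omega
  refine ⟨hpre, fun T => ?_, fun K => (hK K).2⟩
  obtain ⟨t⟩ : Nonempty (Inv G) := by
    haveI : Fact (Nat.Prime 2) := ⟨by norm_num⟩
    obtain ⟨t, ht⟩ := exists_prime_orderOf_dvd_card' (G := G) 2 (by rw [hB.1]; norm_num)
    exact ⟨⟨t, ht⟩⟩
  obtain ⟨K, -, -⟩ := hB.exists_good t
  have hinc := incidence (G := G) (fun (K : Good G) (T : Sylow 3 G) => K.1 ≤ (T : Subgroup G))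
    (fun g K T h => by
      rintro _ ⟨k, hk, rfl⟩
      rw [Sylow.coe_subgroup_smul]
      exact Subgroup.smul_mem_pointwise_smul _ _ _ (h hk)) K T
  rw [(hK K).1, (hK K).2.2.1, (hB.three T).2.1] at hinc
  omega

theorem Big.exists_pair (hB : Big G) [Fact (Nat.Prime 3)] :
    ∃ (T : Sylow 3 G) (K L : Good G) (a : Inv G), K ≠ L ∧ K.1 ≤ (T : Subgroup G) ∧ L.1 ≤ (T : Subgroup G) ∧
      a.1 ∈ Subgroup.normalizer ((T : Subgroup G) : Set G) ∧
      a.1 ∈ Subgroup.normalizer (K.1 : Set G) ∧ a.1 ∈ Subgroup.normalizer (L.1 : Set G) := by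
  haveI : Fact (Nat.Prime 2) := ⟨by norm_num⟩
  obtain ⟨-, hT2, hK⟩ := hB.good_data
  obtain ⟨T⟩ : Nonempty (Sylow 3 G) := inferInstance
  obtain ⟨hTc, -, hTN⟩ := hB.three T
  obtain ⟨⟨K, hKT⟩, ⟨L, hLT⟩, hne, huniv⟩ := Nat.card_eq_two_iff.1 (hT2 T)
  set M := Subgroup.normalizer (K.1 : Set G) ⊓ Subgroup.normalizer ((T : Subgroup G) : Set G)
  -- the stabiliser of `K` in the normaliser of `T` has index at most two
  obtain ⟨a, haM, ha⟩ : ∃ a ∈ M, orderOf a = 2 := by
    obtain ⟨⟨m, hm⟩, hm2⟩ := exists_prime_orderOf_dvd_card' (G := Subgroup.normalizer ((T : Subgroup G) : Set G)) 2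
      (by rw [hTN]; norm_num)
    by_contra hcon
    push Not at hcon
    -- the normaliser of `T` acts on the two subgroups
    let act : MulAction (Subgroup.normalizer ((T : Subgroup G) : Set G)) {K : Good G // K.1 ≤ (T : Subgroup G)} :=
      { smul := fun n K => ⟨(n : G) • K.1, by
          rintro _ ⟨k, hk, rfl⟩
          exact (Subgroup.mem_normalizer_iff.1 n.2 k).1 (K.2 hk)⟩
        one_smul := fun K => Subtype.ext (one_smul G K.1)
        mul_smul := fun n n' K => Subtype.ext (mul_smul (n : G) (n' : G) K.1) }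
    have hdiv : 2 ∣ Nat.card (MulAction.stabilizer (Subgroup.normalizer ((T : Subgroup G) : Set G))
        (⟨K, hKT⟩ : {K : Good G // K.1 ≤ (T : Subgroup G)})) := by
      have h1 := Nat.card_congr (MulAction.orbitProdStabilizerEquivGroup
        (Subgroup.normalizer ((T : Subgroup G) : Set G)) (⟨K, hKT⟩ : {K : Good G // K.1 ≤ (T : Subgroup G)}))
      rw [Nat.card_prod, hTN] at h1
      have h2 : Nat.card (MulAction.orbit (Subgroup.normalizer ((T : Subgroup G) : Set G))
          (⟨K, hKT⟩ : {K : Good G // K.1 ≤ (T : Subgroup G)})) ≤ 2 :=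
        (hT2 T) ▸ Nat.card_le_card_of_injective Subtype.val Subtype.val_injective
      have h3 : 0 < Nat.card (MulAction.orbit (Subgroup.normalizer ((T : Subgroup G) : Set G))
          (⟨K, hKT⟩ : {K : Good G // K.1 ≤ (T : Subgroup G)})) :=
        Nat.card_pos_iff.2 ⟨⟨⟨_, MulAction.mem_orbit_self _⟩⟩, inferInstance⟩
      interval_cases Nat.card (MulAction.orbit (Subgroup.normalizer ((T : Subgroup G) : Set G))
          (⟨K, hKT⟩ : {K : Good G // K.1 ≤ (T : Subgroup G)})) <;> omega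
    obtain ⟨⟨a, haS⟩, ha⟩ := exists_prime_orderOf_dvd_card' 2 hdiv
    rw [Subgroup.orderOf_mk] at ha
    refine hcon (a : G) ⟨?_, a.2⟩ (by rw [Subgroup.orderOf_coe, ha])
    show (a : G) ∈ Subgroup.normalizer (K.1 : Set G)
    rw [← stabilizer_good, MulAction.mem_stabilizer_iff]
    exact congrArg Subtype.val haS
  refine ⟨T, K, L, ⟨a, ha⟩, fun e => hne (Subtype.ext e), hKT, hLT, haM.2, haM.1, ?_⟩
  rw [← stabilizer_good, MulAction.mem_stabilizer_iff]
  have hfix : a • K = K := by rw [← MulAction.mem_stabilizer_iff, stabilizer_good]; exact haM.1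
  have hmem : (a • L).1 ≤ (T : Subgroup G) := by
    rintro _ ⟨k, hk, rfl⟩
    exact (Subgroup.mem_normalizer_iff.1 haM.2 k).1 (hLT hk)
  have h := huniv.ge (Set.mem_univ (⟨a • L, hmem⟩ : {K : Good G // K.1 ≤ (T : Subgroup G)}))
  rcases h with h | h
  · exfalso
    have h' : a • L = K := congrArg Subtype.val h
    exact hne (Subtype.ext (MulAction.injective a (hfix.trans h'.symm)))
  · exact congrArg Subtype.val h

/-- The centraliser of a good subgroup. -/
theorem Big.good_centralizer (hB : Big G) [Fact (Nat.Prime 3)] (K : Good G) :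
    Nat.card (Subgroup.centralizer (K.1 : Set G)) = 36 ∧
    ∃ V : Subgroup G, Nat.card V = 4 ∧ V ≤ Subgroup.centralizer (K.1 : Set G) ∧ (∀ v ∈ V, v * v = 1) ∧
      Subgroup.centralizer (K.1 : Set G) ≤ Subgroup.normalizer (V : Set G) ∧
      ∀ t ∈ Subgroup.centralizer (K.1 : Set G), orderOf t = 2 → t ∈ V := by
  obtain ⟨hpre, -, hKall⟩ := hB.good_data
  obtain ⟨hN, hT4, hI3⟩ := hKall K
  set C := Subgroup.centralizer (K.1 : Set G) with hCdef
  set N := Subgroup.normalizer (K.1 : Set G) with hNdef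
  have hCN : C ≤ N := Subgroup.centralizer_le_normalizer _
  obtain ⟨T, hT⟩ := (IsPGroup.of_card (p := 3) (n := 1)
      (show Nat.card K.1 = 3 ^ 1 by rw [K.2.1, pow_one])).exists_le_sylow
  obtain ⟨hTc, -, hTN⟩ := hB.three T
  have hTC : ∀ P : Sylow 3 G, K.1 ≤ (P : Subgroup G) → (P : Subgroup G) ≤ C := fun P hP => by
    haveI : IsMulCommutative (P : Subgroup G) :=
      IsPGroup.isMulCommutative_of_card_eq_prime_sq (p := 3) (hB.three P).1
    exact (P : Subgroup G).le_centralizer.trans (Subgroup.centralizer_le hP)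
  obtain ⟨t, ht⟩ := K.2.2
  have htC : t.1 ∈ C := Subgroup.mem_centralizer_iff.2 fun k hk => mem_cz.1 (ht hk)
  have hmemC : ∀ {s : Inv G}, s.1 ∈ C ↔ K.1 ≤ Subgroup.centralizer ({s.1} : Set G) := fun {s} =>
    ⟨fun h k hk => mem_cz.2 (Subgroup.mem_centralizer_iff.1 h k hk),
      fun h => Subgroup.mem_centralizer_iff.2 fun k hk => mem_cz.1 (h hk)⟩
  have hC : Nat.card C = 36 := by
    have h1 : 9 ∣ Nat.card C := hTc ▸ Subgroup.card_dvd_of_le (hTC T hT)
    have h2 : 2 ∣ Nat.card C := t.2 ▸ Subgroup.orderOf_dvd_natCard C htC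
    have h3 : Nat.card C ∣ 72 := hN ▸ Subgroup.card_dvd_of_le hCN
    have h4 : (C.subgroupOf N).index ∣ 2 := by
      haveI : IsCyclic K.1 := isCyclic_of_prime_card K.2.1
      have key := Subgroup.card_dvd_of_injective _
        (QuotientGroup.kerLift_injective K.1.normalizerMonoidHom)
      rw [Subgroup.normalizerMonoidHom_ker, IsCyclic.card_mulAut, K.2.1, Nat.totient_prime Nat.prime_three,
        ← Subgroup.index_eq_card] at key
      exact key
    have h5 := Subgroup.card_mul_index (C.subgroupOf N)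
    rw [Nat.card_congr (Subgroup.subgroupOfEquivOfLe hCN).toEquiv, hN] at h5
    have h6 : Nat.card C ≠ 72 := by
      intro h72
      obtain ⟨T', K', L', a, hne, -, -, -, haK, haL⟩ := hB.exists_pair
      have hall : ∀ M : Good G, Subgroup.normalizer (M.1 : Set G) ≤ Subgroup.centralizer (M.1 : Set G) := by
        intro M
        obtain ⟨g, rfl⟩ := MulAction.exists_smul_eq G K M
        have hNC : N ≤ C := (Subgroup.eq_of_le_of_card_ge hCN (by rw [hN, h72])).ge
        intro n hn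
        have h1 : g⁻¹ * n * g ∈ N := by
          rw [hNdef, ← stabilizer_good, MulAction.mem_stabilizer_iff, mul_smul, mul_smul]
          rw [← stabilizer_good, MulAction.mem_stabilizer_iff] at hn
          rw [hn, inv_smul_smul]
        refine Subgroup.mem_centralizer_iff.2 ?_
        rintro _ ⟨k, hk, rfl⟩
        have h2 := commute_conj g (show Commute k (g⁻¹ * n * g) from Subgroup.mem_centralizer_iff.1 (hNC h1) k hk)
        rw [show g * (g⁻¹ * n * g) * g⁻¹ = n by group] at h2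
        exact h2.eq
      exact hne (hB.good_unique a
        (fun k hk => mem_cz.2 (Subgroup.mem_centralizer_iff.1 (hall K' haK) k hk))
        (fun k hk => mem_cz.2 (Subgroup.mem_centralizer_iff.1 (hall L' haL) k hk)))
    have h7 := Nat.le_of_dvd (by norm_num) h4
    interval_cases (C.subgroupOf N).index <;> omega
  refine ⟨hC, ?_⟩
  -- Burnside's transfer theorem in the centraliser
  let TC : Sylow 3 C := T.subtype (hTC T hT)
  have hTCc : Nat.card (TC : Subgroup C) = 9 := by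
    rw [Sylow.coe_subtype, Nat.card_congr (Subgroup.subgroupOfEquivOfLe (hTC T hT)).toEquiv, hTc]
  have h4' : 4 ≤ Nat.card (Sylow 3 C) := hT4 ▸ Nat.card_le_card_of_injective
    (fun P : {P : Sylow 3 G // K.1 ≤ (P : Subgroup G)} => P.1.subtype (hTC P.1 P.2))
    (fun a b e => Subtype.ext (Sylow.subtype_injective e))
  set N0 := Subgroup.normalizer ((TC : Subgroup C) : Set C)
  have hidx : Nat.card (Sylow 3 C) = N0.index := TC.card_eq_index_normalizer
  have hN0 : (TC : Subgroup C) = N0 := by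
    refine Subgroup.eq_of_le_of_card_ge Subgroup.le_normalizer ?_
    have h := N0.card_mul_index
    rw [← hidx, hC] at h
    have := Nat.mul_le_mul_left (Nat.card N0) h4'
    rw [h] at this
    rw [hTCc]
    omega
  haveI : IsMulCommutative (TC : Subgroup C) := IsPGroup.isMulCommutative_of_card_eq_prime_sq (p := 3) hTCc
  have hNC : N0 ≤ Subgroup.centralizer ((TC : Subgroup C) : Set C) := hN0 ▸ (TC : Subgroup C).le_centralizer
  have hcomp := MonoidHom.ker_transferSylow_isComplement' TC hNC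
  set V0 := (MonoidHom.transferSylow TC hNC).ker
  have hV0 : Nat.card V0 = 4 := by
    have := hcomp.card_mul
    rw [hTCc, hC] at this
    omega
  let V := V0.map C.subtype
  have hV : Nat.card V = 4 := by rw [Subgroup.card_map_of_injective C.subtype_injective, hV0]
  have hmem : ∀ s ∈ C, orderOf s = 2 → s ∈ V := by
    intro s hs hs2
    have h1 : orderOf (QuotientGroup.mk' V0 (⟨s, hs⟩ : C)) ∣ 2 := by
      rw [← hs2, ← Subgroup.orderOf_mk s hs]; exact orderOf_map_dvd _ _
    have h2 : orderOf (QuotientGroup.mk' V0 (⟨s, hs⟩ : C)) ∣ 9 := by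
      refine (orderOf_dvd_natCard _).trans (dvd_of_eq ?_)
      rw [← Subgroup.index_eq_card]
      have := V0.card_mul_index
      rw [hV0, hC] at this
      omega
    have h3 := Nat.eq_one_of_dvd_coprimes (show Nat.Coprime 2 9 by norm_num) h1 h2
    exact ⟨⟨s, hs⟩, (QuotientGroup.eq_one_iff _).1 (orderOf_eq_one_iff.1 h3), rfl⟩
  refine ⟨V, hV, Subgroup.map_subtype_le _, ?_, ?_, hmem⟩
  · classical
    haveI := Fintype.ofFinite V
    let F : {t : Inv G // K.1 ≤ Subgroup.centralizer ({t.1} : Set G)} → {v : V // v ≠ 1} := fun s =>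
      ⟨⟨s.1.1, hmem _ (hmemC.2 s.2) s.1.2⟩, fun e => by
        have e' : s.1.1 = 1 := congrArg Subtype.val e
        simpa [e'] using s.1.2⟩
    have hF : Function.Surjective F := by
      refine ((Nat.bijective_iff_injective_and_card F).2 ⟨fun a b e =>
        Subtype.ext (Subtype.ext (congrArg (fun z : {v : V // v ≠ 1} => ((z.1 : V) : G)) e)), ?_⟩).2
      rw [hI3, Nat.card_eq_fintype_card, Fintype.card_subtype_compl, Fintype.card_subtype_eq,
        ← Nat.card_eq_fintype_card, hV]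
    intro v hv
    rcases eq_or_ne v 1 with rfl | h1
    · exact one_mul 1
    · obtain ⟨s, hs⟩ := hF ⟨⟨v, hv⟩, fun e => h1 (congrArg Subtype.val e)⟩
      have hs' : s.1.1 = v := congrArg (fun z : {v : V // v ≠ 1} => ((z.1 : V) : G)) hs
      rw [← hs']; exact inv_mul_self_eq s.1
  · refine le_trans (le_of_eq ?_) (Subgroup.le_normalizer_map C.subtype)
    rw [Subgroup.normalizer_eq_top_iff.2 inferInstance, ← MonoidHom.range_eq_map, Subgroup.range_subtype]

theorem four_group {V : Subgroup G} (hV : Nat.card V = 4) (hV2 : ∀ v ∈ V, v * v = 1) {p q r : G}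
    (hp : p ∈ V) (hq : q ∈ V) (hr : r ∈ V) (hp1 : p ≠ 1) (hq1 : q ≠ 1) (hr1 : r ≠ 1)
    (hpq : p ≠ q) (hpr : p ≠ r) (hqr : q ≠ r) : p * q = r := by
  classical
  by_contra hne
  have hi : ∀ v ∈ V, v⁻¹ = v := fun v hv => inv_eq_of_mul_eq_one_right (hV2 v hv)
  have h1 : p * q ≠ 1 := fun h => hpq (by rw [eq_inv_of_mul_eq_one_left h, hi q hq])
  have h2 : p * q ≠ p := fun h => hq1 (mul_eq_left.1 h)
  have h3 : p * q ≠ q := fun h => hp1 (mul_eq_right.1 h)
  have hr4 : p * q ≠ r := hne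
  have hcard : ({1, p, q, r, p * q} : Finset G).card = 5 := by
    simp [Finset.card_insert_of_notMem, hp1.symm, hq1.symm, hr1.symm, h1.symm, hpq, hpr, hqr, h2.symm, h3.symm, hr4.symm]
  have hsub : ((({1, p, q, r, p * q} : Finset G)) : Set G) ⊆ (V : Set G) := by
    intro y hy
    simp only [Finset.coe_insert, Finset.coe_singleton, Set.mem_insert_iff, Set.mem_singleton_iff] at hy
    rcases hy with rfl | rfl | rfl | rfl | rfl
    exacts [one_mem _, hp, hq, hr, mul_mem hp hq]
  have := Set.ncard_le_ncard hsub (Set.toFinite _)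
  rw [Set.ncard_coe_finset, hcard, ← Nat.card_coe_set_eq] at this
  have h4 : Nat.card ((V : Set G)) = 4 := hV
  omega

theorem Big.exists_v (hB : Big G) [Fact (Nat.Prime 3)] {T : Sylow 3 G} {K L : Good G} {a : Inv G} (hne : K ≠ L)
    (hKT : K.1 ≤ (T : Subgroup G)) (hLT : L.1 ≤ (T : Subgroup G))
    (haK : a.1 ∈ Subgroup.normalizer (K.1 : Set G)) {c : G} (hc : c ∈ L.1) (hc1 : c ≠ 1) :
    ∃ v : Inv G, v.1 ∈ Subgroup.centralizer (K.1 : Set G) ∧ Commute a.1 v.1 ∧ (c * v.1) ^ 3 = 1 ∧ ¬ Commute c v.1 := by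
  haveI : Fact (Nat.Prime 2) := ⟨by norm_num⟩
  obtain ⟨-, V, hV, hVC, hV2, hCV, hmem⟩ := hB.good_centralizer K
  haveI : IsMulCommutative (T : Subgroup G) := IsPGroup.isMulCommutative_of_card_eq_prime_sq (p := 3) (hB.three T).1
  have hcC : c ∈ Subgroup.centralizer (K.1 : Set G) :=
    Subgroup.centralizer_le hKT ((T : Subgroup G).le_centralizer (hLT hc))
  have haV : a.1 ∈ Subgroup.normalizer (V : Set G) := by
    rw [Subgroup.mem_normalizer_iff]
    have key : ∀ g : G, g ∈ Subgroup.normalizer (K.1 : Set G) → ∀ v ∈ V, g * v * g⁻¹ ∈ V := by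
      intro g hg v hv
      rcases eq_or_ne v 1 with rfl | h1
      · simp
      have hv2 : orderOf v = 2 := orderOf_eq_prime (by rw [pow_two]; exact hV2 v hv) h1
      refine hmem _ ?_ (by rw [← MulAut.conj_apply, MulEquiv.orderOf_eq, hv2])
      rw [Subgroup.mem_centralizer_iff]
      intro k hk
      have h := commute_conj g (show Commute (g⁻¹ * k * g) v from
        Subgroup.mem_centralizer_iff.1 (hVC hv) _ ((Subgroup.mem_normalizer_iff''.1 hg k).1 hk))
      rw [show g * (g⁻¹ * k * g) * g⁻¹ = k by group] at h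
      exact h.eq
    intro v
    refine ⟨key _ haK v, fun h => ?_⟩
    have := key _ (inv_mem haK) _ h
    simpa [mul_assoc] using this
  have hmod := card_fixed_mod (IsPGroup.of_card (p := 2) (n := 1)
    (show Nat.card (Subgroup.zpowers a.1) = 2 ^ 1 by rw [Nat.card_zpowers, a.2, pow_one])) haV
  rw [hV] at hmod
  obtain ⟨v, hvI, hv1⟩ : ∃ v ∈ V ⊓ Subgroup.centralizer ({a.1} : Set G), v ≠ 1 := by
    by_contra hcon
    push Not at hcon
    rw [(Subgroup.eq_bot_iff_forall _).2 hcon, Subgroup.card_bot] at hmod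
    omega
  have hvV := hvI.1
  have hv2 : orderOf v = 2 := orderOf_eq_prime (by rw [pow_two]; exact hV2 v hvV) hv1
  have hLz : Subgroup.zpowers c = L.1 := by
    have ho : orderOf c = 3 := ((Nat.dvd_prime Nat.prime_three).1 (L.2.1 ▸ Subgroup.orderOf_dvd_natCard _ hc)).resolve_left
      fun e => hc1 (orderOf_eq_one_iff.1 e)
    exact Subgroup.eq_of_le_of_card_ge (Subgroup.zpowers_le.2 hc) (by rw [Nat.card_zpowers, ho, L.2.1])
  have hncv : ¬ Commute c v := fun h => hne (hB.good_unique ⟨v, hv2⟩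
    (fun k hk => mem_cz.2 (Subgroup.mem_centralizer_iff.1 (hVC hvV) k hk))
    (hLz ▸ Subgroup.zpowers_le.2 (mem_cz.2 h)))
  refine ⟨⟨v, hv2⟩, hVC hvV, (mem_cz.1 hvI.2).symm, ?_, hncv⟩
  have hc3 : c ^ 3 = 1 := by
    have := pow_card_eq_one' (G := L.1) (x := ⟨c, hc⟩)
    rw [L.2.1] at this
    exact congrArg Subtype.val this
  have hcN := hCV hcC
  have hv' := (Subgroup.mem_normalizer_iff.1 hcN v).1 hvV
  have hv'' := (Subgroup.mem_normalizer_iff.1 hcN _).1 hv'
  have hne1 : ∀ {g w : G}, w ≠ 1 → g * w * g⁻¹ ≠ 1 := fun {g w} hw h =>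
    hw (by rwa [mul_inv_eq_one, mul_eq_left] at h)
  have h01 : c * v * c⁻¹ ≠ v := fun h => hncv (mul_inv_eq_iff_eq_mul.1 h)
  have h12 : c * (c * v * c⁻¹) * c⁻¹ ≠ c * v * c⁻¹ := fun h => h01 ((MulAut.conj c).injective h)
  have h02 : c * (c * v * c⁻¹) * c⁻¹ ≠ v := fun h => by
    refine h01 ?_
    calc c * v * c⁻¹ = c * (c * (c * v * c⁻¹) * c⁻¹) * c⁻¹ := by rw [h]
      _ = c ^ 3 * v * (c ^ 3)⁻¹ := by rw [pow_succ, pow_two]; group
      _ = v := by rw [hc3, inv_one, one_mul, mul_one]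
  have h := four_group hV hV2 hv' hv'' hvV (hne1 hv1) (hne1 (hne1 hv1)) hv1 (Ne.symm h12) h01 h02
  calc (c * v) ^ 3 = (c * v * c⁻¹ * (c * (c * v * c⁻¹) * c⁻¹)) * (c ^ 3 * v) := by
        rw [pow_succ, pow_two, pow_succ, pow_two]; group
    _ = 1 := by rw [h, hc3, one_mul, hV2 v hvV]

theorem Big.exists_moore (hB : Big G) : ∃ e v p q r : G, e ≠ 1 ∧ e ^ 3 = 1 ∧ v * v = 1 ∧ p * p = 1 ∧ q * q = 1 ∧
    r * r = 1 ∧ (e * v) ^ 3 = 1 ∧ (e * p) ^ 2 = 1 ∧ (e * q) ^ 2 = 1 ∧ (e * r) ^ 2 = 1 ∧ (v * p) ^ 3 = 1 ∧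
    (v * q) ^ 2 = 1 ∧ (v * r) ^ 2 = 1 ∧ (p * q) ^ 3 = 1 ∧ (q * r) ^ 3 = 1 ∧ (p * r) ^ 2 = 1 := by
  haveI : Fact (Nat.Prime 3) := ⟨by norm_num⟩
  obtain ⟨-, hT2, -⟩ := hB.good_data
  obtain ⟨T, K, L, a, hne, hKT, hLT, -, haK, haL⟩ := hB.exists_pair
  haveI : IsMulCommutative (T : Subgroup G) := IsPGroup.isMulCommutative_of_card_eq_prime_sq (p := 3) (hB.three T).1
  have hgen : ∀ M : Good G, ∃ x ∈ M.1, x ≠ 1 ∧ Subgroup.zpowers x = M.1 ∧ x ^ 3 = 1 := fun M => by
    obtain ⟨⟨x, hx⟩, hx3⟩ := exists_prime_orderOf_dvd_card' (G := M.1) 3 (by rw [M.2.1])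
    rw [Subgroup.orderOf_mk] at hx3
    exact ⟨x, hx, fun e => by simpa [e] using hx3, Subgroup.eq_of_le_of_card_ge (Subgroup.zpowers_le.2 hx)
      (by rw [Nat.card_zpowers, hx3, M.2.1]), hx3 ▸ pow_orderOf_eq_one x⟩
  obtain ⟨x, hxK, hx1, hxz, hx3⟩ := hgen K
  obtain ⟨c, hcL, hc1, hcz, hc3⟩ := hgen L
  have hxc : Commute x c := congrArg Subtype.val (mul_comm' (⟨x, hKT hxK⟩ : (T : Subgroup G)) ⟨c, hLT hcL⟩)
  have le_of : ∀ {M : Good G} {y t : G}, Subgroup.zpowers y = M.1 → Commute y t →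
      M.1 ≤ Subgroup.centralizer ({t} : Set G) := fun h hc => h ▸ Subgroup.zpowers_le.2 (mem_cz.2 hc)
  have conj_cases : ∀ {M : Good G} {y g : G}, y ∈ M.1 → y ≠ 1 → g ∈ Subgroup.normalizer (M.1 : Set G) →
      g * y * g⁻¹ = y ∨ g * y * g⁻¹ = y⁻¹ := fun {M y g} hy hy1 hg => by
    refine (good_cases hy hy1 ((Subgroup.mem_normalizer_iff.1 hg y).1 hy)).resolve_left fun h => hy1 ?_
    rwa [mul_inv_eq_one, mul_eq_left] at h
  have haa : a.1 * a.1 = 1 := inv_mul_self_eq a
  -- `a` inverts both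
  have hinv : ∀ (M M' : Good G), M ≠ M' → M.1 ≤ (T : Subgroup G) → M'.1 ≤ (T : Subgroup G) →
      a.1 ∈ Subgroup.normalizer (M.1 : Set G) → a.1 ∈ Subgroup.normalizer (M'.1 : Set G) →
      ∀ y ∈ M.1, y ≠ 1 → a.1 * y * a.1⁻¹ = y⁻¹ := by
    intro M M' hMM hM hM' haM haM' y hy hy1
    refine (conj_cases hy hy1 haM).resolve_left fun hcen => ?_
    obtain ⟨y', hy', hy'1, hy'z, hy'3⟩ := hgen M'
    have hMz : Subgroup.zpowers y = M.1 := by
      rcases good_cases hy hy1 hy with h | h | h <;>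
        exact Subgroup.eq_of_le_of_card_ge (Subgroup.zpowers_le.2 hy) (by
          rw [Nat.card_zpowers, M.2.1, ((Nat.dvd_prime Nat.prime_three).1
            (M.2.1 ▸ Subgroup.orderOf_dvd_natCard _ hy)).resolve_left fun e => hy1 (orderOf_eq_one_iff.1 e)])
    have haCy : Commute a.1 y := mul_inv_eq_iff_eq_mul.1 hcen
    have haC : a.1 ∈ Subgroup.centralizer (M.1 : Set G) := by
      rw [← hMz, mem_cz_zpowers]; exact haCy
    obtain ⟨-, V, hV, hVC, hV2, hCV, hmem⟩ := hB.good_centralizer M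
    have haV := hmem _ haC a.2
    have hy'C : y' ∈ Subgroup.centralizer (M.1 : Set G) :=
      Subgroup.centralizer_le hM ((T : Subgroup G).le_centralizer (hM' hy'))
    have hd1 : y' * a.1 * y'⁻¹ * a.1⁻¹ ∈ V :=
      mul_mem ((Subgroup.mem_normalizer_iff.1 (hCV hy'C) _).1 haV) (inv_mem haV)
    have hd2 : y' * a.1 * y'⁻¹ * a.1⁻¹ ∈ M'.1 := by
      rw [show y' * a.1 * y'⁻¹ * a.1⁻¹ = y' * (a.1 * y'⁻¹ * a.1⁻¹) by group]
      exact mul_mem hy' ((Subgroup.mem_normalizer_iff.1 haM' _).1 (inv_mem hy'))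
    have hd : y' * a.1 * y'⁻¹ * a.1⁻¹ = 1 := by
      have h1 := hV ▸ Subgroup.orderOf_dvd_natCard _ hd1
      have h2 := M'.2.1 ▸ Subgroup.orderOf_dvd_natCard _ hd2
      exact orderOf_eq_one_iff.1 (Nat.eq_one_of_dvd_coprimes (show Nat.Coprime 4 3 by norm_num) h1 h2)
    exact hMM (hB.good_unique a (le_of hMz haCy.symm)
      (le_of hy'z (mul_inv_eq_iff_eq_mul.1 (mul_inv_eq_one.1 hd))))
  have hax := hinv K L hne hKT hLT haK haL x hxK hx1
  have hac := hinv L K hne.symm hLT hKT haL haK c hcL hc1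
  have hai : a.1⁻¹ = a.1 := inv_eq_of_mul_eq_one_right haa
  have hnxa : ¬ Commute x a.1 := fun h => by
    have h' : a.1 * x * a.1⁻¹ = x := by rw [← h.eq, mul_inv_cancel_right]
    rw [hax] at h'
    have : x * x = 1 := by nth_rewrite 1 [← h']; exact inv_mul_cancel x
    exact hx1 (by rwa [pow_succ, pow_two, this, one_mul] at hx3)
  have hnca : ¬ Commute c a.1 := fun h => by
    have h' : a.1 * c * a.1⁻¹ = c := by rw [← h.eq, mul_inv_cancel_right]
    rw [hac] at h'
    have : c * c = 1 := by nth_rewrite 1 [← h']; exact inv_mul_cancel c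
    exact hc1 (by rwa [pow_succ, pow_two, this, one_mul] at hc3)
  obtain ⟨v, hvK, hav, hcv, hncv⟩ := hB.exists_v hne hKT hLT haK hcL hc1
  obtain ⟨w, hwL, haw, hxw, hnxw⟩ := hB.exists_v hne.symm hLT hKT haL hxK hx1
  have hvx : Commute v.1 x := (Subgroup.mem_centralizer_iff.1 hvK x hxK :).symm
  have hwc : Commute w.1 c := (Subgroup.mem_centralizer_iff.1 hwL c hcL :).symm
  have hvv : v.1 * v.1 = 1 := inv_mul_self_eq v
  have hww : w.1 * w.1 = 1 := inv_mul_self_eq w
  have hvi : v.1⁻¹ = v.1 := inv_eq_of_mul_eq_one_right hvv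
  have hwi : w.1⁻¹ = w.1 := inv_eq_of_mul_eq_one_right hww
  -- the good subgroup of `a`
  obtain ⟨Z, hZa, haZ⟩ := hB.exists_good a
  obtain ⟨z, hzZ, hz1, hzz, hz3⟩ := hgen Z
  have hza : Commute z a.1 := mem_cz.1 (hZa hzZ)
  have hflip : ∀ (M : Good G) (y : G) (s : Inv G), Subgroup.zpowers y = M.1 → Commute y s.1 → ¬ Commute y a.1 →
      Commute s.1 a.1 → s.1 * z * s.1⁻¹ = z⁻¹ := by
    intro M y s hM hys hya hsa
    refine (conj_cases hzZ hz1 (haZ (mem_cz.2 hsa))).resolve_left fun h => ?_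
    have he := hB.good_unique s (le_of hzz (mul_inv_eq_iff_eq_mul.1 h).symm) (le_of hM hys)
    exact hya (mem_cz.1 (hZa (by rw [he, ← hM]; exact Subgroup.mem_zpowers y)))
  have hvz := hflip K x v hxz hvx.symm hnxa hav.symm
  have hwz := hflip L c w hcz hwc.symm hnca haw.symm
  have huz : Commute (v.1 * w.1) z := by
    refine mul_inv_eq_iff_eq_mul.1 ?_
    calc v.1 * w.1 * z * (v.1 * w.1)⁻¹ = v.1 * (w.1 * z * w.1⁻¹) * v.1⁻¹ := by group
      _ = (v.1 * z * v.1⁻¹)⁻¹ := by rw [hwz]; group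
      _ = z := by rw [hvz, inv_inv]
  -- decomposition
  obtain ⟨hCZ, V, hV, hVC, hV2, hCV, hmem⟩ := hB.good_centralizer Z
  have haV : a.1 ∈ V := hmem _ (Subgroup.mem_centralizer_iff.2 fun k hk => mem_cz.1 (hZa hk)) a.2
  have hVcomm : ∀ p ∈ V, ∀ q ∈ V, Commute p q := fun p hp q hq => by
    have hi : ∀ v ∈ V, v⁻¹ = v := fun v hv => inv_eq_of_mul_eq_one_right (hV2 v hv)
    show p * q = q * p
    rw [← hi _ (mul_mem hp hq), mul_inv_rev, hi p hp, hi q hq]
  have hZk : ∀ k ∈ V, Commute z k := fun k hk => Subgroup.mem_centralizer_iff.1 (hVC hk) z hzZ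
  set D := Subgroup.centralizer (Z.1 : Set G) ⊓ Subgroup.centralizer ({a.1} : Set G)
  have hZc : Z.1 ≤ Subgroup.centralizer (Z.1 : Set G) := by
    rw [← hzz]
    exact Subgroup.zpowers_le.2 (mem_cz_zpowers.2 (Commute.refl z))
  let F : Z.1 × V → D := fun p => ⟨p.1 * p.2, mul_mem ⟨hZc p.1.2, hZa p.1.2⟩
    ⟨hVC p.2.2, mem_cz.2 (hVcomm _ p.2.2 _ haV)⟩⟩
  have hF : Function.Bijective F := by
    refine (Nat.bijective_iff_injective_and_card F).2 ⟨fun p q e => ?_, ?_⟩
    · have e' : (p.1 : G) * p.2 = q.1 * q.2 := congrArg Subtype.val e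
      have h1 : (q.1 : G)⁻¹ * p.1 = q.2 * (p.2 : G)⁻¹ := by
        rw [inv_mul_eq_iff_eq_mul, ← mul_assoc, ← e', mul_inv_cancel_right]
      have h2 := Z.2.1 ▸ Subgroup.orderOf_dvd_natCard _ (show (q.1 : G)⁻¹ * p.1 ∈ Z.1 from mul_mem (inv_mem q.1.2) p.1.2)
      have h3 := hV ▸ Subgroup.orderOf_dvd_natCard _
        (show (q.1 : G)⁻¹ * p.1 ∈ V from h1 ▸ mul_mem q.2.2 (inv_mem p.2.2))
      have h4 := orderOf_eq_one_iff.1 (Nat.eq_one_of_dvd_coprimes (show Nat.Coprime 3 4 by norm_num) h2 h3)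
      have h5 : (q.1 : G) = p.1 := inv_mul_eq_one.1 h4
      exact Prod.ext (Subtype.ext h5.symm) (Subtype.ext (mul_left_cancel (h5 ▸ e')))
    · have h1 : Nat.card D ∣ 36 := hCZ ▸ Subgroup.card_dvd_of_le inf_le_left
      have h2 : Nat.card D ∣ 24 := (hB.inv_data.2 a).1 ▸ Subgroup.card_dvd_of_le inf_le_right
      have h3 : Nat.card D ∣ 12 := (Nat.dvd_gcd h1 h2).trans (by norm_num)
      have h4 : Nat.card (Z.1 × V) = 12 := by rw [Nat.card_prod, Z.2.1, hV]
      have h5 : Function.Injective F := fun p q e => by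
        have e' : (p.1 : G) * p.2 = q.1 * q.2 := congrArg Subtype.val e
        have h1 : (q.1 : G)⁻¹ * p.1 = q.2 * (p.2 : G)⁻¹ := by
          rw [inv_mul_eq_iff_eq_mul, ← mul_assoc, ← e', mul_inv_cancel_right]
        have h2 := Z.2.1 ▸ Subgroup.orderOf_dvd_natCard _ (show (q.1 : G)⁻¹ * p.1 ∈ Z.1 from mul_mem (inv_mem q.1.2) p.1.2)
        have h3 := hV ▸ Subgroup.orderOf_dvd_natCard _
          (show (q.1 : G)⁻¹ * p.1 ∈ V from h1 ▸ mul_mem q.2.2 (inv_mem p.2.2))
        have h4 := orderOf_eq_one_iff.1 (Nat.eq_one_of_dvd_coprimes (show Nat.Coprime 3 4 by norm_num) h2 h3)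
        have h5 : (q.1 : G) = p.1 := inv_mul_eq_one.1 h4
        exact Prod.ext (Subtype.ext h5.symm) (Subtype.ext (mul_left_cancel (h5 ▸ e')))
      have := Nat.card_le_card_of_injective F h5
      have := Nat.le_of_dvd (by norm_num) h3
      omega
  obtain ⟨⟨r, k⟩, hrk⟩ := hF.2 ⟨v.1 * w.1, by rw [← hzz]; exact mem_cz_zpowers.2 huz,
    mem_cz.2 (hav.symm.mul_left haw.symm)⟩
  have hu : (r : G) * k = v.1 * w.1 := congrArg Subtype.val hrk
  have hrz : Commute (r : G) z ∧ v.1 * r * v.1⁻¹ = (r : G)⁻¹ := by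
    rcases good_cases hzZ hz1 r.2 with h | h | h <;> rw [h]
    · exact ⟨Commute.one_left z, by group⟩
    · exact ⟨Commute.refl z, hvz⟩
    · refine ⟨(Commute.refl z).inv_left, ?_⟩
      calc v.1 * z⁻¹ * v.1⁻¹ = (v.1 * z * v.1⁻¹)⁻¹ := by group
        _ = _ := by rw [hvz]
  have hrk' : Commute (r : G) k := by
    rcases good_cases hzZ hz1 r.2 with h | h | h <;> rw [h]
    · exact Commute.one_left _
    · exact hZk k k.2
    · exact (hZk k k.2).inv_left
  have hki : (k : G)⁻¹ = k := inv_eq_of_mul_eq_one_right (hV2 k k.2)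
  have hvk : Commute v.1 k := by
    refine mul_inv_eq_iff_eq_mul.1 ?_
    have h1 : v.1 * ((r : G) * k) * v.1⁻¹ = ((r : G) * k)⁻¹ := by
      rw [hu, mul_inv_rev, hvi, hwi]
      calc v.1 * (v.1 * w.1) * v.1 = (v.1 * v.1) * (w.1 * v.1) := by group
        _ = w.1 * v.1 := by rw [hvv, one_mul]
    rw [show v.1 * ((r : G) * k) * v.1⁻¹ = (v.1 * r * v.1⁻¹) * (v.1 * k * v.1⁻¹) by group, hrz.2,
      mul_inv_rev, hki, ← hrk'.inv_left.eq] at h1
    exact mul_left_cancel h1
  have hr3 : (r : G) ^ 3 = 1 := by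
    have := pow_card_eq_one' (G := Z.1) (x := r)
    rw [Z.2.1] at this
    exact congrArg Subtype.val this
  -- the second factor is `a`
  have hka : (k : G) = a.1 := by
    by_contra hka
    by_cases hk1 : (k : G) = 1
    · rw [hk1, mul_one] at hu
      have hwr : w.1 = v.1 * r := by rw [hu, ← mul_assoc, hvv, one_mul]
      rcases eq_or_ne (r : G) 1 with h | h
      · rw [h, mul_one] at hwr
        exact hncv (hwr ▸ hwc.symm)
      have hconj : (r : G) • v = w := by
        refine Subtype.ext ?_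
        rw [inv_smul_def, hwr]
        have e : v.1 * (r : G) = (r : G)⁻¹ * v.1 := by rw [← hrz.2, inv_mul_cancel_right]
        calc (r : G) * v.1 * (r : G)⁻¹ = (r : G) * (v.1 * (r : G)) * ((r : G) * r)⁻¹ := by group
          _ = v.1 * ((r : G) * r)⁻¹ := by rw [e]; group
          _ = v.1 * r := by
            rw [← eq_inv_of_mul_eq_one_right (show (r : G) * r * r = 1 by rw [← pow_two, ← pow_succ]; exact hr3)]
      have hKL : (r : G) • K = L := hB.good_unique w
        (hconj ▸ map_conj_le_centralizer (r : G) (le_of hxz hvx.symm)) (le_of hcz hwc.symm)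
      set M := (r : G) • L with hM
      have hMK : (r : G) • M = K := by
        rw [hM, ← hKL, ← mul_smul, ← mul_smul, ← pow_two, ← pow_succ, hr3, one_smul]
      have hKM : K ≠ M := fun e => hne (by
        have h1 : M = L := MulAction.injective (r : G) (show (r : G) • M = (r : G) • L by rw [hMK, ← hM, ← e])
        exact e.trans h1)
      have hLM : L ≠ M := fun e => hne (MulAction.injective (r : G) (show (r : G) • K = (r : G) • L by
        rw [hKL, ← hM, ← e]))
      have hcK : ∀ p ∈ K.1, ∀ q ∈ L.1, Commute p q := fun p hp q hq =>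
        congrArg Subtype.val (mul_comm' (⟨p, hKT hp⟩ : (T : Subgroup G)) ⟨q, hLT hq⟩)
      have hsm : ∀ (P Q : Good G), (∀ p ∈ P.1, ∀ q ∈ Q.1, Commute p q) →
          ∀ p ∈ ((r : G) • P).1, ∀ q ∈ ((r : G) • Q).1, Commute p q := by
        rintro P Q h _ ⟨p, hp, rfl⟩ _ ⟨q, hq, rfl⟩
        exact commute_conj _ (h p hp q hq)
      have hLMc : ∀ p ∈ L.1, ∀ q ∈ M.1, Commute p q := hKL ▸ hsm K L hcK
      have hMKc : ∀ p ∈ M.1, ∀ q ∈ K.1, Commute p q := hMK ▸ hsm L M hLMc
      have hMT : M.1 ≤ (T : Subgroup G) := by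
        intro y hy
        rcases eq_or_ne y 1 with rfl | hy1
        · exact one_mem _
        refine mem_of_mem_normalizer (k := 1) (by
          rw [pow_one]
          exact ((Nat.dvd_prime Nat.prime_three).1 (M.2.1 ▸ Subgroup.orderOf_dvd_natCard _ hy)).resolve_left
            fun e => hy1 (orderOf_eq_one_iff.1 e)) (Subgroup.centralizer_le_normalizer _ ?_)
        -- `y` centralises `T`
        have hTe : K.1 ⊔ L.1 = (T : Subgroup G) := by
          refine Subgroup.eq_of_le_of_card_ge (sup_le hKT hLT) ?_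
          rw [(hB.three T).1]
          by_contra hlt
          have hd : Nat.card ↥(K.1 ⊔ L.1) ∣ 9 := (hB.three T).1 ▸ Subgroup.card_dvd_of_le (sup_le hKT hLT)
          have hle : 3 ≤ Nat.card ↥(K.1 ⊔ L.1) := K.2.1 ▸ Subgroup.card_le_of_le le_sup_left
          have h3 : Nat.card ↥(K.1 ⊔ L.1) = 3 := by
            obtain ⟨d, hd⟩ := hd
            interval_cases Nat.card ↥(K.1 ⊔ L.1) <;> omega
          have e1 := Subgroup.eq_of_le_of_card_ge (le_sup_left : K.1 ≤ K.1 ⊔ L.1) (by rw [h3, K.2.1])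
          have e2 := Subgroup.eq_of_le_of_card_ge (le_sup_right : L.1 ≤ K.1 ⊔ L.1) (by rw [h3, L.2.1])
          exact hne (Subtype.ext (e1.trans e2.symm))
        have h1 : K.1 ⊔ L.1 ≤ Subgroup.centralizer ({y} : Set G) :=
          sup_le (fun p hp => mem_cz.2 (hMKc y hy p hp).symm) (fun p hp => mem_cz.2 (hLMc p hp y hy))
        rw [hTe] at h1
        exact Subgroup.mem_centralizer_iff.2 fun p hp => mem_cz.1 (h1 hp)
      classical
      let F3 : Fin 3 → {N : Good G // N.1 ≤ (T : Subgroup G)} := ![⟨K, hKT⟩, ⟨L, hLT⟩, ⟨M, hMT⟩]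
      have hF3 : Function.Injective F3 := by
        intro i j e
        have e' : (F3 i).1 = (F3 j).1 := congrArg Subtype.val e
        fin_cases i <;> fin_cases j <;>
          first
            | rfl
            | exact absurd e' hne
            | exact absurd e'.symm hne
            | exact absurd e' hKM
            | exact absurd e'.symm hKM
            | exact absurd e' hLM
            | exact absurd e'.symm hLM
      have := Nat.card_le_card_of_injective F3 hF3
      rw [Nat.card_fin, hT2 T] at this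
      omega
    · have hk2 : orderOf (k : G) = 2 := orderOf_eq_prime (by rw [pow_two]; exact hV2 k k.2) hk1
      have hkK : (k : G) ∈ Subgroup.normalizer (K.1 : Set G) := by
        obtain ⟨Kv, hKv, hvKv⟩ := hB.exists_good v
        rw [show K = Kv from hB.good_unique v (le_of hxz hvx.symm) hKv]
        exact hvKv (mem_cz.2 hvk.symm)
      have hfin : ∀ e : G, e ∈ V → e ≠ 1 → Commute x e → False := fun e he he1 hxe => by
        have he2 : orderOf e = 2 := orderOf_eq_prime (by rw [pow_two]; exact hV2 e he) he1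
        have := hB.good_unique ⟨e, he2⟩ (le_of hxz hxe) (le_of hzz (hZk e he))
        exact hnxa (mem_cz.1 (hZa (this ▸ hxK)))
      rcases conj_cases hxK hx1 hkK with h | h
      · exact hfin k k.2 hk1 (mul_inv_eq_iff_eq_mul.1 h).symm
      · refine hfin (a.1 * k) (mul_mem haV k.2) (fun e => hka ?_) ?_
        · rw [eq_inv_of_mul_eq_one_right e, hai]
        · refine (mul_inv_eq_iff_eq_mul.1 ?_ : Commute (a.1 * (k : G)) x).symm
          calc a.1 * (k : G) * x * (a.1 * (k : G))⁻¹ = a.1 * ((k : G) * x * (k : G)⁻¹) * a.1⁻¹ := by group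
            _ = (a.1 * x * a.1⁻¹)⁻¹ := by rw [h]; group
            _ = x := by rw [hax, inv_inv]
  -- the relations
  have hcax : (c * a.1) * (c * a.1) = 1 := by
    calc c * a.1 * (c * a.1) = c * (a.1 * c * a.1) := by group
      _ = 1 := by rw [show a.1 * c * a.1 = c⁻¹ by rw [← hac, hai]]; group
  have haxx : a.1 * x * (a.1 * x) = 1 := by
    calc a.1 * x * (a.1 * x) = (a.1 * x * a.1) * x := by group
      _ = 1 := by rw [show a.1 * x * a.1 = x⁻¹ by rw [← hax, hai]]; group
  refine ⟨c, v.1, a.1 * w.1, a.1 * x, a.1, hc1, hc3, hvv, ?_, haxx, haa, hcv, ?_, ?_, ?_, ?_, ?_, ?_, ?_, ?_, ?_⟩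
  · rw [← pow_two, haw.mul_pow, pow_two, pow_two, haa, hww, one_mul]
  · rw [pow_two]
    calc c * (a.1 * w.1) * (c * (a.1 * w.1)) = c * a.1 * (w.1 * (c * a.1)) * w.1 := by group
      _ = c * a.1 * ((c * a.1) * w.1) * w.1 := by rw [(hwc.mul_right haw.symm).eq]
      _ = (c * a.1 * (c * a.1)) * (w.1 * w.1) := by group
      _ = 1 := by rw [hcax, hww, one_mul]
  · rw [pow_two]
    calc c * (a.1 * x) * (c * (a.1 * x)) = c * a.1 * (x * c) * (a.1 * x) := by group
      _ = c * a.1 * (c * x) * (a.1 * x) := by rw [hxc.eq]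
      _ = (c * a.1 * (c * a.1)) * (a.1⁻¹ * x * a.1 * x) := by group
      _ = 1 := by rw [hcax, hai, show a.1 * x * a.1 * x = a.1 * x * (a.1 * x) by group, haxx, one_mul]
  · rw [pow_two]; exact hcax
  · rw [show v.1 * (a.1 * w.1) = a.1 * (v.1 * w.1) by rw [← mul_assoc, ← hav.eq, mul_assoc],
      (hav.mul_right haw).mul_pow, ← hu, hka,
      ((show Commute (r : G) a.1 from hka ▸ hrk')).mul_pow, hr3, one_mul]
    calc a.1 ^ 3 * a.1 ^ 3 = (a.1 * a.1) ^ 3 := by rw [pow_succ, pow_two, pow_succ, pow_two]; group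
      _ = 1 := by rw [haa, one_pow]
  · rw [(show Commute v.1 (a.1 * x) from hav.symm.mul_right hvx).mul_pow, pow_two, pow_two, hvv, haxx, one_mul]
  · rw [hav.symm.mul_pow, pow_two, pow_two, hvv, haa, one_mul]
  · rw [show a.1 * w.1 * (a.1 * x) = w.1 * x by
      rw [haw.eq, mul_assoc, ← mul_assoc a.1 a.1, haa, one_mul]]
    rw [show (w.1 * x) ^ 3 = x⁻¹ * (x * w.1) ^ 3 * x by rw [pow_succ, pow_two, pow_succ, pow_two]; group, hxw]
    group
  · rw [show a.1 * x * a.1 = x⁻¹ by rw [← hax, hai], inv_pow, hx3, inv_one]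
  · rw [show a.1 * w.1 * a.1 = w.1 by rw [haw.eq, mul_assoc, haa, mul_one], pow_two, hww]

theorem Big.iso (hB : Big G) : Nonempty (G ≃* alternatingGroup (Fin 7)) := by
  obtain ⟨e, v, p, q, r, he1, h1, h2, h3, h4, h5, h6, h7, h8, h9, h10, h11, h12, h13, h14, h15⟩ := hB.exists_moore
  obtain ⟨f, z, hz⟩ := exists_hom h1 h2 h3 h4 h5 h6 h7 h8 h9 h10 h11 h12 h13 h14 h15
  haveI : IsSimpleGroup (alternatingGroup (Fin 7)) :=
    alternatingGroup.isSimpleGroup (by rw [Nat.card_fin]; norm_num)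
  have hinj : Function.Injective f := by
    rw [← MonoidHom.ker_eq_bot_iff]
    refine (MonoidHom.normal_ker f).eq_bot_or_eq_top.resolve_right fun h => he1 ?_
    rw [← hz]
    exact MonoidHom.mem_ker.1 (h ▸ Subgroup.mem_top z : z ∈ f.ker)
  refine ⟨(MulEquiv.ofBijective f ((Nat.bijective_iff_injective_and_card f).2 ⟨hinj, ?_⟩)).symm⟩
  have ha := two_mul_nat_card_alternatingGroup (α := Fin 7)
  rw [Nat.card_perm, Nat.card_fin, show Nat.factorial 7 = 5040 from rfl] at ha
  rw [hB.1]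
  omega

end CfsgLib.AltSevenRecog
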